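import Mathlib
import Cfsg.Agent.OddHalf.D4.En2.Base

-- merged: Cfsg.Agent.OddHalf.D4.En2.Lib
section

/-!
# ODD, D4, `E_n(2)`: elementary lemmas on root elements over the field of two elements
-/

set_option autoImplicit false
set_option linter.unusedSectionVars false

namespace Cfsg.Agent.OddHalf.D4.En2

open Subgroup Cfsg.Agent.OddHalf.SL.Defs

variable {L Y : Type*} [AddCommGroup L] [Group Y]
variable {B : L → L → ℤ} {Φ : Set L} {x : L → Y} {ht : L →+ ℤ}

theorem mem_XS {S : Set L} {c : L} (hc : c ∈ S) : x c ∈ XS x S := subset_closure ⟨c, hc, rfl⟩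

theorem XS_mono {S T : Set L} (h : S ⊆ T) : XS x S ≤ XS x T := closure_mono (Set.image_mono h)

theorem XS_le {S : Set L} {H : Subgroup Y} (h : ∀ c ∈ S, x c ∈ H) : XS x S ≤ H := by
  unfold XS
  rw [closure_le]
  rintro _ ⟨c, hc, rfl⟩
  exact h c hc

/-- `⟨·, r⟩` as an additive map -/
def fB (rt : Roots B Φ) (r : L) : L →+ ℤ := AddMonoidHom.mk' (fun c => B c r) fun a b => rt.add_left a b r

@[simp] theorem fB_apply (rt : Roots B Φ) (r c : L) : fB rt r c = B c r := rfl

/-- commuting with all of `XS x S` -/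
theorem comm_XS {S : Set L} {g : Y} (h : ∀ c ∈ S, g * x c = x c * g) {u : Y} (hu : u ∈ XS x S) : g * u = u * g := by
  have h1 : XS x S ≤ centralizer ({g} : Set Y) := XS_le fun c hc => by
    rw [mem_centralizer_singleton_iff]; exact (h c hc).symm
  exact (mem_centralizer_singleton_iff.mp (h1 hu)).symm

/-- conjugation by an involution into a subgroup -/
theorem conj_mem_XS {S : Set L} {H : Subgroup Y} {g : Y} (h : ∀ c ∈ S, g * x c * g⁻¹ ∈ H) {u : Y} (hu : u ∈ XS x S) :
    g * u * g⁻¹ ∈ H := by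
  have h1 : XS x S ≤ H.comap (MulAut.conj g).toMonoidHom := XS_le fun c hc => h c hc
  exact h1 hu

namespace RE

variable (h : RE B Φ x ht)
include h

theorem inv {a : L} (ha : a ∈ Φ) : (x a)⁻¹ = x a := inv_eq_of_mul_eq_one_left (h.sq a ha)

theorem cancel {a : L} (ha : a ∈ Φ) (g : Y) : x a * (x a * g) = g := by rw [← mul_assoc, h.sq a ha, one_mul]

theorem cancel' {a : L} (ha : a ∈ Φ) (g : Y) : g * x a * x a = g := by rw [mul_assoc, h.sq a ha, mul_one]

theorem conj_pos {a b : L} (ha : a ∈ Φ) (hb : b ∈ Φ) (hab : 0 ≤ B a b) : x a * x b * (x a)⁻¹ = x b := by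
  rw [h.comm a ha b hb hab]; group

theorem conj_neg {a b : L} (ha : a ∈ Φ) (hb : b ∈ Φ) (hab : B a b = -1) : x a * x b * (x a)⁻¹ = x b * x (a + b) := by
  rw [h.inv ha, h.add a ha b hb hab]

theorem self {a : L} (ha : a ∈ Φ) : B a a = 2 := h.rt.two a ha

theorem ne_neg {a : L} (ha : a ∈ Φ) : a ≠ -a := by
  intro h0
  have h1 := h.self ha
  have h2 : B a (-a) = -2 := by rw [h.rt.neg_right, h1]
  rw [← h0, h1] at h2
  omega

/-- the value of `B` on roots -/
theorem cases {a b : L} (ha : a ∈ Φ) (hb : b ∈ Φ) : B a b = -2 ∨ B a b = -1 ∨ B a b = 0 ∨ B a b = 1 ∨ B a b = 2 := by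
  have h1 := h.rt.le a ha b hb
  have h2 := h.rt.ge ha hb
  omega

/-- `x a` normalises `XS x T` if `T` is stable under adding `a`. -/
theorem conj_XS {T : Set L} {a : L} (ha : a ∈ Φ) (hT : T ⊆ Φ) (hna : -a ∉ T) (hadd : ∀ c ∈ T, B a c = -1 → a + c ∈ T)
    {u : Y} (hu : u ∈ XS x T) : x a * u * (x a)⁻¹ ∈ XS x T := by
  apply conj_mem_XS (fun c hc => ?_) hu
  have hcΦ := hT hc
  rcases h.cases ha hcΦ with h1 | h1 | h1
  · exfalso
    have h2 : a = -c := h.rt.eq_neg ha hcΦ h1
    apply hna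
    rw [h2, neg_neg]; exact hc
  · rw [h.conj_neg ha hcΦ h1]
    exact mul_mem (mem_XS hc) (mem_XS (hadd c hc h1))
  · rw [h.conj_pos ha hcΦ (by omega)]
    exact mem_XS hc

/-- normalised subgroup: splitting off a factor -/
theorem mem_insert {T : Set L} {b : L} (hb : b ∈ Φ) (hn : ∀ u ∈ XS x T, x b * u * (x b)⁻¹ ∈ XS x T) {w : Y}
    (hw : w ∈ XS x (insert b T)) : w ∈ XS x T ∨ x b * w ∈ XS x T := by
  have hn' : ∀ u ∈ XS x T, x b * u * x b ∈ XS x T := by
    intro u hu
    have := hn u hu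
    rwa [h.inv hb] at this
  unfold XS at hw
  induction hw using closure_induction with
  | mem y hy =>
    obtain ⟨c, hc, rfl⟩ := hy
    rcases hc with rfl | hc
    · right; rw [h.sq _ hb]; exact one_mem _
    · left; exact mem_XS hc
  | one => left; exact one_mem _
  | mul y z _ _ hy hz =>
    rcases hy with hy | hy <;> rcases hz with hz | hz
    · left; exact mul_mem hy hz
    · right
      have h1 : x b * (y * z) = (x b * y * x b) * (x b * z) := by
        have := h.sq b hb
        calc x b * (y * z) = x b * y * 1 * z := by group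
          _ = _ := by rw [← this]; group
      rw [h1]; exact mul_mem (hn' y hy) hz
    · right
      rw [← mul_assoc]; exact mul_mem hy hz
    · left
      have h1 : y * z = (x b * (x b * y) * x b) * (x b * z) := by
        rw [h.cancel hb]
        calc y * z = y * 1 * z := by group
          _ = y * (x b * x b) * z := by rw [h.sq b hb]
          _ = _ := by group
      rw [h1]; exact mul_mem (hn' _ hy) hz
  | inv y _ hy =>
    rcases hy with hy | hy
    · left; exact inv_mem hy
    · right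
      have h1 : x b * y⁻¹ = x b * (x b * y)⁻¹ * x b := by
        rw [mul_inv_rev, h.inv hb]
        rw [mul_assoc, mul_assoc, h.sq b hb, mul_one]
      rw [h1]; exact hn' _ (inv_mem hy)

/-- The positive roots: adding a positive root. -/
theorem closed_pos : Closed B (Pos Φ ht) := by
  rintro a ⟨ha, ha0⟩ b ⟨hb, hb0⟩ hab
  exact ⟨h.rt.add a ha b hb hab, by rw [map_add]; omega⟩

theorem inter_mem {S : Set L} {F : List (L →+ ℤ)} {g : Y} (hg : ∀ f ∈ F, g ∈ XS x {c | c ∈ Φ ∧ 0 ≤ f c})
    (hS : ∀ c ∈ Φ, (∀ f ∈ F, 0 ≤ f c) → c ∈ S) : g ∈ XS x S :=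
  XS_mono (fun c hc => hS c hc.1 hc.2) (h.inter g F hg)

/-- a positive root element is not generated by higher ones -/
theorem notMem_of_notMem {S : Set L} (hS : S ⊆ Pos Φ ht) (hc : Closed B S) {b : L} (hb : b ∈ Pos Φ ht) (hbS : b ∉ S) :
    x b ∉ XS x S := by
  intro h0
  have h1 : XS x ({b} : Set L) ⊓ XS x S ≤ XS x (({b} : Set L) ∩ S) := by
    apply h.inf _ _ _ hS _ hc
    · rintro c hc
      rw [Set.mem_singleton_iff] at hc
      rw [hc]; exact hb
    · intro a ha c hc hac
      rw [Set.mem_singleton_iff] at ha hc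
      subst ha hc
      rw [h.self hb.1] at hac
      omega
  have h2 : x b ∈ XS x (({b} : Set L) ∩ S) := h1 ⟨mem_XS rfl, h0⟩
  have h3 : ({b} : Set L) ∩ S = ∅ := by
    ext c
    simp only [Set.mem_inter_iff, Set.mem_singleton_iff, Set.mem_empty_iff_false, iff_false, not_and]
    rintro rfl
    exact hbS
  rw [h3] at h2
  unfold XS at h2
  rw [Set.image_empty, Subgroup.closure_empty, mem_bot] at h2
  exact h.ne b hb.1 h2

end RE

/-! ### Products over lists of pairwise orthogonal roots -/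

/-- product of root elements -/
def pr (x : L → Y) (F : List L) : Y := (F.map x).prod

/-- pairwise orthogonal roots -/
structure Ort (B : L → L → ℤ) (Φ : Set L) (F : List L) : Prop where
  mem : ∀ a ∈ F, a ∈ Φ
  pw : F.Pairwise fun a b => B a b = 0

@[simp] theorem pr_nil : pr x ([] : List L) = 1 := rfl

@[simp] theorem pr_cons (a : L) (F : List L) : pr x (a :: F) = x a * pr x F := by
  unfold pr; rw [List.map_cons, List.prod_cons]

@[simp] theorem pr_append (F F' : List L) : pr x (F ++ F') = pr x F * pr x F' := by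
  unfold pr; rw [List.map_append, List.prod_append]

namespace Ort

theorem nil : Ort B Φ ([] : List L) := ⟨by simp, List.Pairwise.nil⟩

theorem tail {a : L} {F : List L} (h : Ort B Φ (a :: F)) : Ort B Φ F :=
  ⟨fun b hb => h.mem b (List.mem_cons_of_mem _ hb), (List.pairwise_cons.mp h.pw).2⟩

theorem head {a : L} {F : List L} (h : Ort B Φ (a :: F)) : a ∈ Φ := h.mem a List.mem_cons_self

theorem orth {a : L} {F : List L} (h : Ort B Φ (a :: F)) : ∀ b ∈ F, B a b = 0 := (List.pairwise_cons.mp h.pw).1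

theorem cons {a : L} {F : List L} (ha : a ∈ Φ) (h : Ort B Φ F) (ho : ∀ b ∈ F, B a b = 0) : Ort B Φ (a :: F) := by
  refine ⟨fun b hb => ?_, List.pairwise_cons.mpr ⟨ho, h.pw⟩⟩
  rcases List.mem_cons.mp hb with rfl | hb
  · exact ha
  · exact h.mem b hb

theorem perm (rt : Roots B Φ) {F F' : List L} (h : Ort B Φ F) (hp : F.Perm F') : Ort B Φ F' :=
  ⟨fun a ha => h.mem a (hp.mem_iff.mpr ha), (hp.pairwise_iff (fun {a b} hab => by rw [rt.symm]; exact hab)).mp h.pw⟩

theorem sublist {F F' : List L} (h : Ort B Φ F) (hp : F'.Sublist F) : Ort B Φ F' :=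
  ⟨fun a ha => h.mem a (hp.subset ha), h.pw.sublist hp⟩

theorem nodup (rt : Roots B Φ) {F : List L} (h : Ort B Φ F) : F.Nodup := by
  unfold List.Nodup
  apply h.pw.imp_of_mem
  intro a b ha _ hab
  rintro rfl
  rw [rt.two a (h.mem a ha)] at hab
  omega

theorem eq_zero (rt : Roots B Φ) {F : List L} (h : Ort B Φ F) {a b : L} (ha : a ∈ F) (hb : b ∈ F) (hab : a ≠ b) :
    B a b = 0 := by
  induction F with
  | nil => exact absurd ha (by simp)
  | cons c F ih =>
    rcases List.mem_cons.mp ha with ha' | ha'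
    · rcases List.mem_cons.mp hb with hb' | hb'
      · exact absurd (ha'.trans hb'.symm) hab
      · rw [ha']; exact h.orth b hb'
    · rcases List.mem_cons.mp hb with hb' | hb'
      · rw [hb', rt.symm]; exact h.orth a ha'
      · exact ih h.tail ha' hb'

end Ort

namespace RE

variable (h : RE B Φ x ht)
include h

theorem pr_perm {F F' : List L} (hF : Ort B Φ F) (hp : F.Perm F') : pr x F = pr x F' := by
  unfold pr
  apply (hp.map x).prod_eq'
  rw [List.pairwise_map]
  apply hF.pw.imp_of_mem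
  intro a b ha hb hab
  exact h.comm a (hF.mem a ha) b (hF.mem b hb) (by omega)

omit h in
theorem comm_pr {g : Y} {F : List L} (hF : ∀ a ∈ F, g * x a = x a * g) : g * pr x F = pr x F * g := by
  induction F with
  | nil => simp
  | cons a F ih =>
    rw [pr_cons, ← mul_assoc, hF a List.mem_cons_self, mul_assoc,
      ih fun b hb => hF b (List.mem_cons_of_mem _ hb), mul_assoc]

theorem comm_pr' {a : L} (ha : a ∈ Φ) {F : List L} (hF : Ort B Φ F) (hc : ∀ b ∈ F, 0 ≤ B a b) :
    x a * pr x F = pr x F * x a :=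
  comm_pr fun b hb => h.comm a ha b (hF.mem b hb) (hc b hb)

theorem pr_sq {F : List L} (hF : Ort B Φ F) : pr x F * pr x F = 1 := by
  induction F with
  | nil => simp
  | cons a F ih =>
    rw [pr_cons]
    have h1 : x a * pr x F = pr x F * x a := h.comm_pr' hF.head hF.tail fun b hb => by rw [hF.orth b hb]
    calc x a * pr x F * (x a * pr x F) = x a * pr x F * (pr x F * x a) := by rw [h1]
      _ = x a * (pr x F * pr x F) * x a := by group
      _ = 1 := by rw [ih hF.tail, mul_one, h.sq a hF.head]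

theorem pr_inv {F : List L} (hF : Ort B Φ F) : (pr x F)⁻¹ = pr x F := inv_eq_of_mul_eq_one_left (h.pr_sq hF)

omit h in
theorem pr_mem {S : Set L} {F : List L} (hF : ∀ a ∈ F, a ∈ S) : pr x F ∈ XS x S := by
  induction F with
  | nil => exact one_mem _
  | cons a F ih =>
    rw [pr_cons]
    exact mul_mem (mem_XS (hF a List.mem_cons_self)) (ih fun b hb => hF b (List.mem_cons_of_mem _ hb))

end RE

end Cfsg.Agent.OddHalf.D4.En2

end

-- merged: Cfsg.Agent.OddHalf.D4.En2.Move
section

/-!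
# ODD, D4, `E_n(2)`: transport of the root elements by an automorphism, reflections, triviality of the centre
-/

set_option autoImplicit false
set_option linter.unusedSectionVars false

namespace Cfsg.Agent.OddHalf.D4.En2

open Subgroup Cfsg.Agent.OddHalf.SL.Defs

variable {L Y : Type*} [AddCommGroup L] [Group Y]
variable {B : L → L → ℤ} {Φ : Set L} {x : L → Y} {ht : L →+ ℤ} {ρ : L} {Fl : (L →+ L) → Prop}

/-- the transported root elements -/
def mv (γ : MulAut Y) (x : L → Y) : L → Y := fun c => γ (x c)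

@[simp] theorem mv_apply (γ : MulAut Y) (c : L) : mv γ x c = γ (x c) := rfl

theorem mv_mv (γ δ : MulAut Y) : mv γ (mv δ x) = mv (γ * δ) x := rfl

theorem mv_one : mv 1 x = x := rfl

theorem XS_mv (γ : MulAut Y) (S : Set L) : XS (mv γ x) S = (XS x S).map γ.toMonoidHom := by
  unfold XS
  rw [MonoidHom.map_closure]
  congr 1
  ext y
  constructor
  · rintro ⟨c, hc, rfl⟩
    exact ⟨x c, ⟨c, hc, rfl⟩, rfl⟩
  · rintro ⟨_, ⟨c, hc, rfl⟩, rfl⟩
    exact ⟨c, hc, rfl⟩

theorem mem_XS_mv {γ : MulAut Y} {S : Set L} {y : Y} : y ∈ XS (mv γ x) S ↔ γ.symm y ∈ XS x S := by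
  rw [XS_mv]
  constructor
  · rintro ⟨z, hz, rfl⟩
    have : γ.symm (γ.toMonoidHom z) = z := γ.symm_apply_apply z
    rw [this]; exact hz
  · intro hy
    exact ⟨_, hy, γ.apply_symm_apply y⟩

theorem mem_XS_mv' {γ : MulAut Y} {S : Set L} {y : Y} : γ y ∈ XS (mv γ x) S ↔ y ∈ XS x S := by
  rw [mem_XS_mv, γ.symm_apply_apply]

theorem pr_mv (γ : MulAut Y) (F : List L) : pr (mv γ x) F = γ (pr x F) := by
  induction F with
  | nil => simp
  | cons a F ih => rw [pr_cons, pr_cons, map_mul, ih, mv_apply]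

theorem RE.map (h : RE B Φ x ht) (γ : MulAut Y) : RE B Φ (mv γ x) ht where
  rt := h.rt
  orth := h.orth
  tri := h.tri
  quad := h.quad
  ht0 := h.ht0
  hti := h.hti
  gen := by
    rw [eq_top_iff]
    intro y _
    rw [mem_XS_mv, h.gen]; exact mem_top _
  sq a ha := by rw [mv_apply, ← map_mul, h.sq a ha, map_one]
  ne a ha h0 := h.ne a ha (γ.injective (h0.trans (map_one γ).symm))
  comm a ha b hb hab := by rw [mv_apply, mv_apply, ← map_mul, h.comm a ha b hb hab, map_mul]
  add a ha b hb hab := by simp only [mv_apply, ← map_mul]; rw [h.add a ha b hb hab]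
  braid a ha := by simp only [mv_apply, ← map_mul]; rw [h.braid a ha]
  cent a ha g hg := by
    rw [mem_XS_mv]
    apply h.cent a ha
    apply γ.injective
    rw [map_mul, map_mul, γ.apply_symm_apply]
    exact hg
  inter g F hF := by
    rw [mem_XS_mv]
    apply h.inter
    intro f hf
    exact mem_XS_mv.mp (hF f hf)
  inf S T hS hT hcS hcT := by
    intro y hy
    rw [mem_XS_mv]
    exact h.inf S T hS hT hcS hcT ⟨mem_XS_mv.mp hy.1, mem_XS_mv.mp hy.2⟩

theorem RA.map (h : RA B Φ x ht ρ Fl) (γ : MulAut Y) : RA B Φ (mv γ x) ht ρ Fl where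
  ρmem := h.ρmem
  high := h.high
  syl := by
    obtain ⟨S, hS⟩ := h.syl
    have h2 : IsPGroup 2 ↥(XS (mv γ x) (Pos Φ ht)) := by
      rw [XS_mv, ← hS]
      exact S.2.map _
    refine ⟨⟨XS (mv γ x) (Pos Φ ht), h2, ?_⟩, rfl⟩
    intro Q hQ hle
    have h3 : IsPGroup 2 ↥(Q.map γ.symm.toMonoidHom) := hQ.map _
    have h4 : (S : Subgroup Y) ≤ Q.map γ.symm.toMonoidHom := by
      intro s hs
      refine ⟨γ s, hle ?_, γ.symm_apply_apply s⟩
      rw [mem_XS_mv', ← hS]; exact hs
    have h5 := S.3 h3 h4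
    apply le_antisymm _ hle
    intro q hq
    rw [mem_XS_mv, ← hS, ← h5]
    exact ⟨q, hq, rfl⟩
  norm g hg := by
    rw [mem_XS_mv]
    apply h.norm
    intro u hu
    have h1 := hg (γ u) (mem_XS_mv'.mpr hu)
    rw [mem_XS_mv, map_mul, map_mul, map_inv, γ.symm_apply_apply] at h1
    exact h1
  core a ha P hP hc hn := by
    have h1 : P.map γ.symm.toMonoidHom ≤ XS x {c | c ∈ Φ ∧ 0 < B c a} := by
      apply h.core a ha _ (hP.map _)
      · rintro _ ⟨p, hp, rfl⟩
        apply γ.injective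
        show γ (γ.symm p * x a) = γ (x a * γ.symm p)
        rw [map_mul, map_mul, γ.apply_symm_apply]
        exact hc p hp
      · rintro c hcc _ ⟨p, hp, rfl⟩
        refine ⟨γ c * p * (γ c)⁻¹, ?_, ?_⟩
        · apply hn _ _ p hp
          rw [mv_apply, ← map_mul, hcc, map_mul]
        · show γ.symm (γ c * p * (γ c)⁻¹) = c * γ.symm p * c⁻¹
          rw [map_mul, map_mul, map_inv, γ.symm_apply_apply]
    intro p hp
    rw [mem_XS_mv]
    exact h1 ⟨p, hp, rfl⟩
  auto β hβ := by
    obtain ⟨s, hs, τ, hτ, hc⟩ := h.auto (γ⁻¹ * β * γ) (by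
      intro u hu
      have h1 := hβ (γ u) (mem_XS_mv'.mpr hu)
      rw [mem_XS_mv] at h1
      exact h1)
    refine ⟨γ s, mem_XS_mv'.mpr hs, τ, hτ, fun c hcΦ => ?_⟩
    have h1 := hc c hcΦ
    have h2 : γ ((γ⁻¹ * β * γ) (x c)) = β (γ (x c)) := γ.apply_symm_apply _
    rw [mv_apply, mv_apply, ← h2, h1, map_mul, map_mul, map_inv]

namespace RE

variable (h : RE B Φ x ht)
include h

/-- the centre is trivial -/
theorem center_eq (g : Y) (hg : ∀ a ∈ Φ, g * x a = x a * g) : g = 1 := by
  have hfin := h.rt.fin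
  let F : List (L →+ ℤ) := hfin.toFinset.toList.map (fB h.rt)
  have h1 : g ∈ XS x (∅ : Set L) := by
    apply h.inter_mem (F := F)
    · intro f hf
      simp only [F, List.mem_map, Finset.mem_toList, Set.Finite.mem_toFinset] at hf
      obtain ⟨a, ha, rfl⟩ := hf
      exact h.cent a ha g (hg a ha)
    · intro c hc hF
      exfalso
      have h2 := hF (fB h.rt (-c)) (by
        simp only [F, List.mem_map, Finset.mem_toList, Set.Finite.mem_toFinset]
        exact ⟨-c, h.rt.neg_mem c hc, rfl⟩)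
      rw [fB_apply, h.rt.neg_right, h.self hc] at h2
      omega
  unfold XS at h1
  rw [Set.image_empty, Subgroup.closure_empty, mem_bot] at h1
  exact h1

theorem conj_inj {g k : Y} (hgk : MulAut.conj g = MulAut.conj k) : g = k := by
  have h1 : k⁻¹ * g = 1 := by
    apply h.center_eq
    intro a _
    have h2 := congrArg (fun f : MulAut Y => f (x a)) hgk
    simp only [MulAut.conj_apply] at h2
    calc k⁻¹ * g * x a = k⁻¹ * (g * x a * g⁻¹) * g := by group
      _ = k⁻¹ * (k * x a * k⁻¹) * g := by rw [h2]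
      _ = _ := by group
  calc g = k * (k⁻¹ * g) := by group
    _ = k := by rw [h1, mul_one]

/-- two automorphisms agreeing on the root elements are equal -/
theorem aut_ext {α β : MulAut Y} (hab : ∀ c ∈ Φ, α (x c) = β (x c)) : α = β := by
  have h1 : XS x Φ ≤ (α.toMonoidHom).eqLocus β.toMonoidHom := XS_le fun c hc => hab c hc
  rw [h.gen] at h1
  ext y
  exact h1 (mem_top y)

/-! ### reflections -/

/-- `n_a` -/
theorem refl_neg {a c : L} (ha : a ∈ Φ) (hc : c ∈ Φ) (hac : B a c = -1) :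
    (x a * x (-a) * x a) * x c * (x a * x (-a) * x a)⁻¹ = x (a + c) := by
  have rt := h.rt
  have hna := rt.neg_mem a ha
  have hs := rt.add a ha c hc hac
  have k1 : x a * x c * (x a)⁻¹ = x c * x (a + c) := h.conj_neg ha hc hac
  have k2 : x (-a) * x c * (x (-a))⁻¹ = x c := h.conj_pos hna hc (by rw [rt.neg_left, hac]; norm_num)
  have k3 : x (-a) * x (a + c) * (x (-a))⁻¹ = x (a + c) * x c := by
    have := h.conj_neg hna hs (by rw [rt.neg_left, rt.add_right, h.self ha, hac]; norm_num)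
    rwa [show -a + (a + c) = c by abel] at this
  have k4 : x a * x (a + c) * (x a)⁻¹ = x (a + c) :=
    h.conj_pos ha hs (by rw [rt.add_right, h.self ha, hac]; norm_num)
  have k5 : x c * x (a + c) = x (a + c) * x c :=
    h.comm c hc _ hs (by rw [rt.add_right, h.self hc, rt.symm, hac]; norm_num)
  calc (x a * x (-a) * x a) * x c * (x a * x (-a) * x a)⁻¹
      = x a * (x (-a) * (x a * x c * (x a)⁻¹) * (x (-a))⁻¹) * (x a)⁻¹ := by group
    _ = x a * ((x (-a) * x c * (x (-a))⁻¹) * (x (-a) * x (a + c) * (x (-a))⁻¹)) * (x a)⁻¹ := by rw [k1]; group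
    _ = x a * ((x c * x (a + c)) * x c) * (x a)⁻¹ := by rw [k2, k3]; group
    _ = x a * (x (a + c) * (x c * x c)) * (x a)⁻¹ := by rw [k5]; group
    _ = x (a + c) := by rw [h.sq c hc, mul_one, k4]

/-- the reflection in `a` on the root elements -/
theorem refl_conj {a c : L} (ha : a ∈ Φ) (hc : c ∈ Φ) :
    (x a * x (-a) * x a) * x c * (x a * x (-a) * x a)⁻¹ = x (c - B c a • a) := by
  have rt := h.rt
  have hna := rt.neg_mem a ha
  have hs := rt.symm c a
  rcases h.cases ha hc with h1 | h1 | h1 | h1 | h1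
  · -- `a = -c`
    have e : c = -a := by rw [rt.eq_neg ha hc h1, neg_neg]
    subst e
    have e2 : (-a : L) - B (-a) a • a = a := by rw [hs, h1]; rw [neg_smul, two_smul]; abel
    rw [e2]
    have hbr := h.braid a ha
    have hsq := h.sq a ha
    have hi : (x a * x (-a) * x a)⁻¹ = x a * x (-a) * x a := by
      rw [mul_inv_rev, mul_inv_rev, h.inv ha, h.inv hna, mul_assoc]
    rw [hi]
    calc (x a * x (-a) * x a) * x (-a) * (x a * x (-a) * x a)
        = (x a * x (-a) * x a) * x (-a) * (x (-a) * x a * x (-a)) := by rw [hbr]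
      _ = (x a * x (-a) * x a) * (x (-a) * x (-a)) * x a * x (-a) := by group
      _ = (x a * x (-a)) * (x a * x a) * x (-a) := by rw [h.sq _ hna]; group
      _ = x a * (x (-a) * x (-a)) := by rw [hsq]; group
      _ = x a := by rw [h.sq _ hna, mul_one]
  · have e : c - B c a • a = a + c := by rw [hs, h1]; rw [neg_smul, one_smul]; abel
    rw [e]; exact h.refl_neg ha hc h1
  · have e : c - B c a • a = c := by rw [hs, h1, zero_smul, sub_zero]
    rw [e]
    have c1 : Commute (x a) (x c) := h.comm a ha c hc (by omega)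
    have c2 : Commute (x (-a)) (x c) := h.comm _ hna c hc (by rw [rt.neg_left]; omega)
    have c3 : (x a * x (-a) * x a) * x c = x c * (x a * x (-a) * x a) := (c1.mul_left c2).mul_left c1
    rw [c3, mul_inv_cancel_right]
  · have e : c - B c a • a = -a + c := by rw [hs, h1]; rw [one_smul]; abel
    rw [e, h.braid a ha]
    have := h.refl_neg hna hc (by rw [rt.neg_left, h1])
    rwa [neg_neg] at this
  · have e : c = a := (rt.eq a ha c hc h1).symm
    subst e
    have e2 : c - B c c • c = -c := by rw [h1]; rw [two_smul]; abel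
    rw [e2]
    have hbr := h.braid c hc
    have hsq := h.sq c hc
    have hi : (x c * x (-c) * x c)⁻¹ = x c * x (-c) * x c := by
      rw [mul_inv_rev, mul_inv_rev, h.inv ha, h.inv hna, mul_assoc]
    rw [hi]
    calc (x c * x (-c) * x c) * x c * (x c * x (-c) * x c)
        = x c * x (-c) * (x c * x c) * (x c * x (-c) * x c) := by group
      _ = x c * (x (-c) * x c * x (-c)) * x c := by rw [hsq]; group
      _ = x c * (x c * x (-c) * x c) * x c := by rw [hbr]
      _ = (x c * x c) * x (-c) * (x c * x c) := by group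
      _ = x (-c) := by rw [hsq]; group

theorem refl_mem {a c : L} (ha : a ∈ Φ) (hc : c ∈ Φ) : c - B c a • a ∈ Φ := by
  have rt := h.rt
  have hs := rt.symm c a
  rcases h.cases ha hc with h1 | h1 | h1 | h1 | h1
  · have e : c = -a := by rw [rt.eq_neg ha hc h1, neg_neg]
    have e2 : c - B c a • a = a := by rw [hs, h1, e]; rw [neg_smul, two_smul]; abel
    rw [e2]; exact ha
  · have e : c - B c a • a = a + c := by rw [hs, h1]; rw [neg_smul, one_smul]; abel
    rw [e]; exact rt.add a ha c hc h1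
  · have e : c - B c a • a = c := by rw [hs, h1, zero_smul, sub_zero]
    rw [e]; exact hc
  · have e : c - B c a • a = c - a := by rw [hs, h1]; rw [one_smul]
    rw [e]; exact rt.sub_mem hc ha (by omega)
  · have e : c = a := (rt.eq a ha c hc h1).symm
    have e2 : c - B c a • a = -a := by rw [hs, h1, e]; rw [two_smul]; abel
    rw [e2]; exact rt.neg_mem a ha

theorem B_smul_left (n : ℤ) (a b : L) : B (n • a) b = n * B a b := by
  have := map_zsmul (fB h.rt b) n a
  rw [fB_apply, fB_apply, smul_eq_mul] at this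
  exact this

theorem refl_B {a : L} (ha : a ∈ Φ) (c d : L) : B (c - B c a • a) (d - B d a • a) = B c d := by
  have rt := h.rt
  rw [rt.sub_left, rt.sub_right, rt.sub_right, h.B_smul_left, h.B_smul_left, rt.symm c (B d a • a),
    rt.symm a (B d a • a), h.B_smul_left, h.B_smul_left, h.self ha, rt.symm a c, rt.symm a d]
  ring

/-- a Weyl element -/
structure Wl (g : Y) (w : L → L) : Prop where
  mem : ∀ c ∈ Φ, w c ∈ Φ
  act : ∀ c ∈ Φ, g * x c * g⁻¹ = x (w c)
  iso : ∀ c ∈ Φ, ∀ d ∈ Φ, B (w c) (w d) = B c d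

omit h in
theorem Wl.mul {g g' : Y} {w w' : L → L} (h1 : Wl (B := B) (Φ := Φ) (x := x) g w)
    (h2 : Wl (B := B) (Φ := Φ) (x := x) g' w') : Wl (B := B) (Φ := Φ) (x := x) (g * g') (w ∘ w') := by
  refine ⟨fun c hc => h1.mem _ (h2.mem c hc), fun c hc => ?_, fun c hc d hd => ?_⟩
  · have e : g * g' * x c * (g * g')⁻¹ = g * (g' * x c * g'⁻¹) * g⁻¹ := by group
    rw [e, h2.act c hc, h1.act _ (h2.mem c hc)]; rfl
  · rw [Function.comp, Function.comp, h1.iso _ (h2.mem c hc) _ (h2.mem d hd), h2.iso c hc d hd]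

theorem wl_refl {a : L} (ha : a ∈ Φ) :
    Wl (B := B) (Φ := Φ) (x := x) (x a * x (-a) * x a) fun c => c - B c a • a :=
  ⟨fun _ hc => h.refl_mem ha hc, fun _ hc => h.refl_conj ha hc, fun c _ d _ => h.refl_B ha c d⟩

theorem exists_wl1 {a b : L} (ha : a ∈ Φ) (hb : b ∈ Φ) (hab : B a b = 1) :
    ∃ g w, Wl (B := B) (Φ := Φ) (x := x) g w ∧ w a = b := by
  have rt := h.rt
  have hd := rt.sub_mem ha hb hab
  refine ⟨_, _, h.wl_refl hd, ?_⟩
  show a - B a (a - b) • (a - b) = b
  rw [rt.sub_right, h.self ha, hab]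
  norm_num

/-- the Weyl group is transitive on the roots -/
theorem exists_wl {a b : L} (ha : a ∈ Φ) (hb : b ∈ Φ) : ∃ g w, Wl (B := B) (Φ := Φ) (x := x) g w ∧ w a = b := by
  have rt := h.rt
  have comp : ∀ {a b c : L}, (∃ g w, Wl (B := B) (Φ := Φ) (x := x) g w ∧ w a = b) →
      (∃ g w, Wl (B := B) (Φ := Φ) (x := x) g w ∧ w b = c) →
      ∃ g w, Wl (B := B) (Φ := Φ) (x := x) g w ∧ w a = c := by
    rintro a b c ⟨g, w, h1, e1⟩ ⟨g', w', h2, e2⟩
    exact ⟨_, _, h2.mul h1, by rw [Function.comp, e1, e2]⟩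
  rcases h.cases ha hb with h1 | h1 | h1 | h1 | h1
  · refine ⟨_, _, h.wl_refl ha, ?_⟩
    show a - B a a • a = b
    have e : a = -b := rt.eq_neg ha hb h1
    rw [h.self ha, two_smul, e]; abel
  · have hs := rt.add a ha b hb h1
    apply comp (h.exists_wl1 ha hs (by rw [rt.add_right, h.self ha, h1]; norm_num))
    exact h.exists_wl1 hs hb (by rw [rt.add_left, h.self hb, h1]; norm_num)
  · obtain ⟨m, hm, h2, h3⟩ := h.orth a ha (-b) (rt.neg_mem b hb) (by rw [rt.neg_right, h1, neg_zero])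
    rw [rt.neg_right] at h3
    apply comp (h.exists_wl1 ha hm (by rw [rt.symm]; exact h2))
    exact h.exists_wl1 hm hb (by omega)
  · exact h.exists_wl1 ha hb h1
  · refine ⟨1, id, ⟨fun _ hc => hc, fun _ _ => by simp, fun _ _ _ _ => rfl⟩, ?_⟩
    exact rt.eq a ha b hb h1

/-- all root elements are conjugate -/
theorem exists_conj_root {a b : L} (ha : a ∈ Φ) (hb : b ∈ Φ) : ∃ g : Y, g * x a * g⁻¹ = x b := by
  obtain ⟨g, w, hw, e⟩ := h.exists_wl ha hb
  exact ⟨g, by rw [hw.act a ha, e]⟩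

end RE

end Cfsg.Agent.OddHalf.D4.En2

end

-- merged: Cfsg.Agent.OddHalf.D4.En2.Qa
section

/-!
# ODD, D4, `E_n(2)`: `Q a = ⟨x c : ⟨c, a⟩ > 0⟩ = O_2(C(x a))`
-/

set_option autoImplicit false
set_option linter.unusedSectionVars false

namespace Cfsg.Agent.OddHalf.D4.En2

open Subgroup Cfsg.Agent.OddHalf.SL.Defs

variable {L Y : Type*} [AddCommGroup L] [Group Y]
variable {B : L → L → ℤ} {Φ : Set L} {x : L → Y} {ht : L →+ ℤ} {ρ : L} {Fl : (L →+ L) → Prop}

/-- `Q a` -/
def Qs (B : L → L → ℤ) (Φ : Set L) (x : L → Y) (a : L) : Subgroup Y := XS x {c | c ∈ Φ ∧ 0 < B c a}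

namespace RE

variable (h : RE B Φ x ht)
include h

theorem self_mem_Q {a : L} (ha : a ∈ Φ) : x a ∈ Qs B Φ x a := mem_XS ⟨ha, by rw [h.self ha]; norm_num⟩

theorem Q_central {a : L} (ha : a ∈ Φ) {u : Y} (hu : u ∈ Qs B Φ x a) : x a * u = u * x a := by
  apply comm_XS _ hu
  rintro c ⟨hc, hca⟩
  apply h.comm a ha c hc
  rw [h.rt.symm]; omega

/-- commutators of elements of `Q a` -/
theorem Q_comm {a : L} (ha : a ∈ Φ) {u v : Y} (hu : u ∈ Qs B Φ x a) (hv : v ∈ Qs B Φ x a) :
    u * v = v * u ∨ u * v = x a * (v * u) := by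
  have rt := h.rt
  have hz := h.sq a ha
  -- generators
  have h0 : ∀ c ∈ Φ, 0 < B c a → ∀ d ∈ Φ, 0 < B d a → x c * x d = x d * x c ∨ x c * x d = x a * (x d * x c) := by
    intro c hc hca d hd hda
    by_cases hcd : 0 ≤ B c d
    · left; exact h.comm c hc d hd hcd
    have h1 := rt.le c hc a ha
    have h2 := rt.le d hd a ha
    have h3 := rt.ge hc hd
    have h4 : B c d ≠ -2 := by
      intro h5
      have := rt.eq_neg hc hd h5
      rw [this, rt.neg_left] at hca
      omega
    have h5 : B c d = -1 := by omega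
    have hs := rt.add c hc d hd h5
    have h6 : B (c + d) a ≤ 2 := rt.le _ hs a ha
    rw [rt.add_left] at h6
    have h7 : c + d = a := rt.eq _ hs a ha (by rw [rt.add_left]; omega)
    right
    have h8 := h.add c hc d hd h5
    rw [h7] at h8
    have h9 : x a * x d = x d * x a := h.comm a ha d hd (by rw [rt.symm]; omega)
    have h10 := h.sq c hc
    calc x c * x d = x c * x d * (x c * x c) := by rw [h10, mul_one]
      _ = (x c * x d * x c) * x c := by group
      _ = (x d * x a) * x c := by rw [h8]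
      _ = x a * (x d * x c) := by rw [← h9, mul_assoc]
  -- fixed `v = x d`
  have key : ∀ v ∈ Qs B Φ x a, (∀ c ∈ Φ, 0 < B c a → x c * v = v * x c ∨ x c * v = x a * (v * x c)) →
      ∀ u ∈ Qs B Φ x a, u * v = v * u ∨ u * v = x a * (v * u) := by
    intro v hv hvc u hu
    have hzv := h.Q_central ha hv
    unfold Qs XS at hu
    induction hu using closure_induction with
    | mem y hy =>
      obtain ⟨c, hc, rfl⟩ := hy
      exact hvc c hc.1 hc.2
    | one => left; rw [one_mul, mul_one]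
    | mul y z hy hz' ihy ihz =>
      have hzy : x a * y = y * x a := h.Q_central ha hy
      have hzz : x a * z = z * x a := h.Q_central ha hz'
      rcases ihy with ihy | ihy <;> rcases ihz with ihz | ihz
      · left; rw [mul_assoc, ihz, ← mul_assoc, ihy, mul_assoc]
      · right
        calc y * z * v = y * (z * v) := by group
          _ = (y * x a) * v * z := by rw [ihz]; group
          _ = x a * (y * v) * z := by rw [← hzy]; group
          _ = _ := by rw [ihy]; group
      · right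
        calc y * z * v = y * (z * v) := by group
          _ = (y * v) * z := by rw [ihz]; group
          _ = _ := by rw [ihy]; group
      · left
        calc y * z * v = y * (z * v) := by group
          _ = (y * x a) * v * z := by rw [ihz]; group
          _ = x a * (y * v) * z := by rw [← hzy]; group
          _ = (x a * x a) * (v * y) * z := by rw [ihy]; group
          _ = _ := by rw [hz]; group
    | inv y hy ihy =>
      have hzy : x a * y = y * x a := h.Q_central ha hy
      rcases ihy with ihy | ihy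
      · left
        calc y⁻¹ * v = y⁻¹ * (v * y) * y⁻¹ := by group
          _ = v * y⁻¹ := by rw [← ihy]; group
      · right
        have e : v * y = x a * (y * v) := by
          rw [ihy, ← mul_assoc, hz, one_mul]
        calc y⁻¹ * v = y⁻¹ * (v * y) * y⁻¹ := by group
          _ = y⁻¹ * (x a * y) * v * y⁻¹ := by rw [e]; group
          _ = x a * (v * y⁻¹) := by rw [hzy]; group
          _ = _ := rfl
  apply key v hv _ u hu
  intro c hc hca
  have h1 := key (x c) (mem_XS ⟨hc, hca⟩) (fun d hd hda => h0 d hd hda c hc hca) v hv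
  rcases h1 with h1 | h1
  · left; exact h1.symm
  · right; rw [h1, ← mul_assoc, hz, one_mul]

/-- the centraliser of `x a` normalises `Q a` -/
theorem Q_norm {a : L} (ha : a ∈ Φ) {g : Y} (hg : g * x a = x a * g) {u : Y} (hu : u ∈ Qs B Φ x a) :
    g * u * g⁻¹ ∈ Qs B Φ x a := by
  have h1 : XS x {c | c ∈ Φ ∧ 0 ≤ B c a} ≤ normalizer (Qs B Φ x a : Set Y) := by
    apply XS_le
    rintro c ⟨hc, hca⟩
    have h2 : ∀ u ∈ Qs B Φ x a, x c * u * (x c)⁻¹ ∈ Qs B Φ x a := by
      intro u hu
      apply h.conj_XS hc (fun d hd => hd.1) _ _ hu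
      · rintro ⟨-, h3⟩
        rw [h.rt.neg_left] at h3
        omega
      · rintro d ⟨hd, hda⟩ hcd
        refine ⟨h.rt.add c hc d hd hcd, ?_⟩
        rw [h.rt.add_left]; omega
    rw [mem_normalizer_iff]
    intro u
    refine ⟨h2 u, fun h3 => ?_⟩
    have h4 := h2 _ h3
    rw [h.inv hc] at h4
    have e : x c * (x c * u * x c) * x c = (x c * x c) * u * (x c * x c) := by group
    rw [e, h.sq c hc, one_mul, mul_one] at h4
    exact h4
  have h2 := h1 (h.cent a ha g hg)
  exact (mem_normalizer_iff.mp h2 u).mp hu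

/-- the centre of `Q a` -/
theorem Q_center {a : L} (ha : a ∈ Φ) {u : Y} (hu : u ∈ Qs B Φ x a)
    (hc : ∀ c ∈ Φ, B c a = 1 → u * x c = x c * u) : u = 1 ∨ u = x a := by
  have rt := h.rt
  have hfin : {c | c ∈ Φ ∧ B c a = 1}.Finite := rt.fin.subset fun c hc => hc.1
  let F : List (L →+ ℤ) := fB rt a :: hfin.toFinset.toList.map (fB rt)
  have h1 : u ∈ XS x (insert a (∅ : Set L)) := by
    apply h.inter_mem (F := F)
    · intro f hf
      simp only [F, List.mem_cons, List.mem_map, Finset.mem_toList, Set.Finite.mem_toFinset] at hf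
      rcases hf with rfl | ⟨d, hd, rfl⟩
      · refine XS_mono ?_ hu
        exact fun c hc => ⟨hc.1, by rw [fB_apply]; exact hc.2.le⟩
      · exact h.cent d hd.1 u (hc d hd.1 hd.2)
    · intro c hcΦ hF
      have h2 := hF (fB rt a) (by simp [F])
      rw [fB_apply] at h2
      have h3 : ∀ d ∈ Φ, B d a = 1 → 0 ≤ B c d := by
        intro d hd hda
        have := hF (fB rt d) (by
          simp only [F, List.mem_cons, List.mem_map, Finset.mem_toList, Set.Finite.mem_toFinset]
          right; exact ⟨d, ⟨hd, hda⟩, rfl⟩)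
        rwa [fB_apply] at this
      have h4 := rt.le c hcΦ a ha
      rcases (by omega : B c a = 0 ∨ B c a = 1 ∨ B c a = 2) with h5 | h5 | h5
      · exfalso
        obtain ⟨m, hm, h6, h7⟩ := h.orth a ha c hcΦ (by rw [rt.symm]; exact h5)
        have := h3 m hm h6
        rw [rt.symm] at this
        omega
      · exfalso
        have h6 : B a c = 1 := by rw [rt.symm]; exact h5
        have hs := rt.sub_mem ha hcΦ h6
        have := h3 (a - c) hs (by rw [rt.sub_left, h.self ha, h5]; norm_num)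
        rw [rt.sub_right, h5, h.self hcΦ] at this
        omega
      · rw [rt.eq c hcΦ a ha h5]; exact Set.mem_insert _ _
  have h2 := h.mem_insert (T := ∅) ha (fun v hv => by
    unfold XS at hv
    rw [Set.image_empty, Subgroup.closure_empty, mem_bot] at hv
    rw [hv]; simp) h1
  unfold XS at h2
  rw [Set.image_empty, Subgroup.closure_empty, mem_bot, mem_bot] at h2
  rcases h2 with h2 | h2
  · left; exact h2
  · right
    calc u = x a * (x a * u) := (h.cancel ha u).symm
      _ = x a := by rw [h2, mul_one]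

theorem Q_wl {g : Y} {w : L → L} (hw : Wl (B := B) (Φ := Φ) (x := x) g w) {a : L} (ha : a ∈ Φ) {u : Y}
    (hu : u ∈ Qs B Φ x a) : g * u * g⁻¹ ∈ Qs B Φ x (w a) := by
  apply conj_mem_XS _ hu
  rintro c ⟨hc, hca⟩
  rw [hw.act c hc]
  exact mem_XS ⟨hw.mem c hc, by rw [hw.iso c hc a ha]; exact hca⟩

end RE

/-! ### `O_2` of the centraliser -/

/-- the largest normal 2-subgroup of the centraliser of `e` -/
def OO (e : Y) : Subgroup Y :=
  sSup {P : Subgroup Y | IsPGroup 2 ↥P ∧ (∀ p ∈ P, p * e = e * p) ∧ ∀ c, c * e = e * c → ∀ p ∈ P, c * p * c⁻¹ ∈ P}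

theorem OO_map (γ : MulAut Y) (e : Y) {u : Y} (hu : u ∈ OO e) : γ u ∈ OO (γ e) := by
  have h1 : OO e ≤ (OO (γ e)).comap γ.toMonoidHom := by
    apply sSup_le
    rintro P ⟨hP, hPc, hPn⟩
    rw [← map_le_iff_le_comap]
    apply le_sSup
    refine ⟨hP.map _, ?_, ?_⟩
    · rintro _ ⟨p, hp, rfl⟩
      show γ p * γ e = γ e * γ p
      rw [← map_mul, hPc p hp, map_mul]
    · rintro c hc _ ⟨p, hp, rfl⟩
      refine ⟨γ.symm c * p * (γ.symm c)⁻¹, ?_, ?_⟩
      · apply hPn _ _ p hp
        apply γ.injective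
        rw [map_mul, map_mul, γ.apply_symm_apply, hc]
      · show γ (γ.symm c * p * (γ.symm c)⁻¹) = c * γ p * c⁻¹
        rw [map_mul, map_mul, map_inv, γ.apply_symm_apply]
  exact h1 hu

theorem OO_map_iff (γ : MulAut Y) (e u : Y) : γ u ∈ OO (γ e) ↔ u ∈ OO e := by
  refine ⟨fun hu => ?_, OO_map γ e⟩
  have h1 := OO_map γ.symm (γ e) hu
  rwa [γ.symm_apply_apply, γ.symm_apply_apply] at h1

namespace RA

variable (h : RE B Φ x ht) (ha : RA B Φ x ht ρ Fl)
include h ha

theorem two_U : IsPGroup 2 ↥(XS x (Pos Φ ht)) := by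
  obtain ⟨S, hS⟩ := ha.syl
  rw [← hS]; exact S.2

theorem pos_of {c : L} (hc : c ∈ Φ) (h1 : 0 < B c ρ) : c ∈ Pos Φ ht := by
  refine ⟨hc, ?_⟩
  by_contra h2
  have h3 := h.ht0 c hc
  have h4 := ha.high (-c) (h.rt.neg_mem c hc) (by rw [map_neg]; omega)
  rw [h.rt.neg_left] at h4
  omega

theorem Qρ_le : Qs B Φ x ρ ≤ XS x (Pos Φ ht) := XS_mono fun _ hc => pos_of h ha hc.1 hc.2

theorem Q_two {a : L} (haΦ : a ∈ Φ) : IsPGroup 2 ↥(Qs B Φ x a) := by
  obtain ⟨g, w, hw, e⟩ := h.exists_wl haΦ ha.ρmem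
  have h1 : (Qs B Φ x a).map (MulAut.conj g).toMonoidHom ≤ XS x (Pos Φ ht) := by
    rintro _ ⟨u, hu, rfl⟩
    apply Qρ_le h ha
    rw [← e]
    exact h.Q_wl hw haΦ hu
  have h2 : IsPGroup 2 ↥((Qs B Φ x a).map (MulAut.conj g).toMonoidHom) := (two_U h ha).to_le h1
  exact h2.of_equiv ((Qs B Φ x a).equivMapOfInjective _ (MulAut.conj g).injective).symm

theorem OO_eq {a : L} (haΦ : a ∈ Φ) : OO (x a) = Qs B Φ x a := by
  apply le_antisymm
  · apply sSup_le
    rintro P ⟨h1, h2, h3⟩
    exact ha.core a haΦ P h1 h2 h3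
  · apply le_sSup
    exact ⟨Q_two h ha haΦ, fun p hp => (h.Q_central haΦ hp).symm, fun c hc p hp => h.Q_norm haΦ hc hp⟩

/-- a positive dominant root is the highest root -/
theorem eq_ρ {c : L} (hc : c ∈ Pos Φ ht) (hd : ∀ d ∈ Pos Φ ht, 0 ≤ B c d) : c = ρ := by
  have rt := h.rt
  have hρ := ha.ρmem
  have h1 := ha.high c hc.1 hc.2
  have h2 := rt.le c hc.1 ρ hρ
  rcases (by omega : B c ρ = 0 ∨ B c ρ = 1 ∨ B c ρ = 2) with h3 | h3 | h3
  · exfalso
    obtain ⟨m, hm, h4, h5⟩ := h.orth ρ hρ c hc.1 (by rw [rt.symm]; exact h3)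
    have := hd m (pos_of h ha hm (by omega))
    rw [rt.symm] at this
    omega
  · exfalso
    have h4 : B ρ c = 1 := by rw [rt.symm]; exact h3
    have hs := rt.sub_mem hρ hc.1 h4
    have h5 : B (ρ - c) ρ = 1 := by rw [rt.sub_left, h.self hρ, h3]; norm_num
    have := hd _ (pos_of h ha hs (by omega))
    rw [rt.sub_right, h3, h.self hc.1] at this
    omega
  · exact rt.eq c hc.1 ρ hρ h3

theorem ρpos : ρ ∈ Pos Φ ht := pos_of h ha ha.ρmem (by rw [h.self ha.ρmem]; norm_num)

theorem U_central {u : Y} (hu : u ∈ XS x (Pos Φ ht)) : x ρ * u = u * x ρ := by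
  apply comm_XS _ hu
  rintro c hc
  apply h.comm ρ ha.ρmem c hc.1
  rw [h.rt.symm]; exact ha.high c hc.1 hc.2

/-- the centre of `U` -/
theorem U_center {u : Y} (hu : u ∈ XS x (Pos Φ ht)) (hc : ∀ c ∈ Pos Φ ht, u * x c = x c * u) : u = 1 ∨ u = x ρ := by
  have rt := h.rt
  have hfin : (Pos Φ ht).Finite := rt.fin.subset fun c hc => hc.1
  let F : List (L →+ ℤ) := ht :: hfin.toFinset.toList.map (fB rt)
  have h1 : u ∈ XS x (insert ρ (∅ : Set L)) := by
    apply h.inter_mem (F := F)
    · intro f hf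
      simp only [F, List.mem_cons, List.mem_map, Finset.mem_toList, Set.Finite.mem_toFinset] at hf
      rcases hf with rfl | ⟨d, hd, rfl⟩
      · refine XS_mono ?_ hu
        exact fun c hc => ⟨hc.1, hc.2.le⟩
      · exact h.cent d hd.1 u (hc d hd)
    · intro c hcΦ hF
      have h2 := hF ht (by simp [F])
      have h3 := h.ht0 c hcΦ
      have h4 : c = ρ := by
        apply eq_ρ h ha ⟨hcΦ, by omega⟩
        intro d hd
        have := hF (fB rt d) (by
          simp only [F, List.mem_cons, List.mem_map, Finset.mem_toList, Set.Finite.mem_toFinset]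
          right; exact ⟨d, hd, rfl⟩)
        rwa [fB_apply] at this
      rw [h4]; exact Set.mem_insert _ _
  have h2 := h.mem_insert (T := ∅) ha.ρmem (fun v hv => by
    unfold XS at hv
    rw [Set.image_empty, Subgroup.closure_empty, mem_bot] at hv
    rw [hv]; simp) h1
  unfold XS at h2
  rw [Set.image_empty, Subgroup.closure_empty, mem_bot, mem_bot] at h2
  rcases h2 with h2 | h2
  · left; exact h2
  · right
    calc u = x ρ * (x ρ * u) := (h.cancel ha.ρmem u).symm
      _ = x ρ := by rw [h2, mul_one]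

/-- an automorphism normalising `U` fixes `x ρ` -/
theorem aut_fix [Finite Y] {β : MulAut Y} (hβ : ∀ u ∈ XS x (Pos Φ ht), β u ∈ XS x (Pos Φ ht)) : β (x ρ) = x ρ := by
  have hsurj : ∀ u ∈ XS x (Pos Φ ht), ∃ v ∈ XS x (Pos Φ ht), β v = u := by
    have h1 : (XS x (Pos Φ ht)).map β.toMonoidHom ≤ XS x (Pos Φ ht) := by
      rintro _ ⟨u, hu, rfl⟩
      exact hβ u hu
    have h2 : Nat.card ↥((XS x (Pos Φ ht)).map β.toMonoidHom) = Nat.card ↥(XS x (Pos Φ ht)) :=
      (Nat.card_congr ((XS x (Pos Φ ht)).equivMapOfInjective _ β.injective).toEquiv).symm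
    have h3 := eq_of_le_of_card_ge h1 h2.ge
    intro u hu
    rw [← h3] at hu
    exact hu
  have h1 : β (x ρ) = 1 ∨ β (x ρ) = x ρ := by
    apply U_center h ha (hβ _ (mem_XS (ρpos h ha)))
    intro c hc
    obtain ⟨v, hv, hvc⟩ := hsurj (x c) (mem_XS hc)
    rw [← hvc, ← map_mul, U_central h ha hv, map_mul]
  rcases h1 with h1 | h1
  · exfalso
    apply h.ne ρ ha.ρmem
    apply β.injective
    rw [h1, map_one]
  · exact h1

end RA

end Cfsg.Agent.OddHalf.D4.En2

end
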