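import Mathlib
import Cfsg.Agent.OddHalf.D4.En2.Qa
import Cfsg.Agent.OddHalf.D4.KP
import Cfsg.Agent.OddHalf.D4.Basic

-- merged: Cfsg.Agent.OddHalf.D4.En2.Inv
section

/-!
# ODD, D4, `E_n(2)`: every involution of the positive unipotent group is conjugate in it to a product of root elements
for pairwise orthogonal positive roots (text: helper305 #11622 (C))
-/

set_option autoImplicit false
set_option linter.unusedSectionVars false

namespace Cfsg.Agent.OddHalf.D4.En2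

open Subgroup Cfsg.Agent.OddHalf.SL.Defs

variable {L Y : Type*} [AddCommGroup L] [Group Y]
variable {B : L → L → ℤ} {Φ : Set L} {x : L → Y} {ht : L →+ ℤ}

/-- the positive roots orthogonal to all roots of `R` -/
def PO (B : L → L → ℤ) (Φ : Set L) (ht : L →+ ℤ) (R : List L) : Set L := {c | c ∈ Pos Φ ht ∧ ∀ r ∈ R, B c r = 0}

namespace RE

variable (h : RE B Φ x ht)
include h

omit h in
theorem PO_pos {R : List L} : PO B Φ ht R ⊆ Pos Φ ht := fun _ hc => hc.1

omit h in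
theorem PO_cons {R : List L} {b : L} : PO B Φ ht (b :: R) ⊆ PO B Φ ht R :=
  fun _ hc => ⟨hc.1, fun r hr => hc.2 r (List.mem_cons_of_mem _ hr)⟩

theorem PO_closed (R : List L) : Closed B (PO B Φ ht R) := by
  rintro a ha b hb hab
  refine ⟨h.closed_pos a ha.1 b hb.1 hab, fun r hr => ?_⟩
  rw [h.rt.add_left, ha.2 r hr, hb.2 r hr, add_zero]

/-- a bound on heights -/
theorem exists_bound : ∃ N : ℕ, ∀ c ∈ Φ, ht c ≤ N := by
  obtain ⟨M, hM⟩ := (h.rt.fin.image ht).bddAbove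
  refine ⟨M.toNat, fun c hc => ?_⟩
  have := hM ⟨c, hc, rfl⟩
  omega

/-- the lowest root in an element of `XS x S` -/
theorem exists_lowest {S : Set L} (hS : S ⊆ Pos Φ ht) (hc : Closed B S) {w : Y} (hw : w ∈ XS x S) (hw1 : w ≠ 1) :
    ∃ b ∈ S, ∃ y ∈ XS x {c | c ∈ S ∧ ht b < ht c}, w = x b * y := by
  obtain ⟨N, hN⟩ := h.exists_bound
  have key : ∀ n : ℕ, w ∈ XS x {c | c ∈ S ∧ (n : ℤ) < ht c} ∨
      ∃ b ∈ S, ∃ y ∈ XS x {c | c ∈ S ∧ ht b < ht c}, w = x b * y := by
    intro n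
    induction n with
    | zero =>
      left
      refine XS_mono ?_ hw
      exact fun c hcS => ⟨hcS, (hS hcS).2⟩
    | succ n ih =>
      rcases ih with ih | ih
      swap
      · right; exact ih
      by_cases hex : ∃ b ∈ S, ht b = n + 1
      · obtain ⟨b, hbS, hbn⟩ := hex
        have hb := (hS hbS).1
        have hsub : {c | c ∈ S ∧ (n : ℤ) < ht c} ⊆ insert b {c | c ∈ S ∧ ht b < ht c} := by
          rintro c ⟨hcS, hcn⟩
          by_cases hcb : c = b
          · left; exact hcb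
          · right
            refine ⟨hcS, ?_⟩
            have h1 : ht c ≠ ht b := fun h0 => hcb (h.hti c (hS hcS).1 b hb h0)
            omega
        have h2 := h.mem_insert (T := {c | c ∈ S ∧ ht b < ht c}) hb (fun u hu => by
          apply h.conj_XS hb (fun c hc => (hS hc.1).1) _ _ hu
          · rintro ⟨h3, -⟩
            have h4 := (hS h3).2
            have h5 := (hS hbS).2
            rw [map_neg] at h4
            omega
          · rintro c ⟨hcS, hcb⟩ hBc
            refine ⟨hc b hbS c hcS hBc, ?_⟩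
            have h5 := (hS hcS).2
            rw [map_add]; omega) (XS_mono hsub ih)
        rcases h2 with h2 | h2
        · left
          rw [hbn] at h2
          push_cast
          exact h2
        · right
          exact ⟨b, hbS, x b * w, h2, (h.cancel hb w).symm⟩
      · left
        push Not at hex
        apply XS_mono _ ih
        rintro c ⟨hcS, hcn⟩
        refine ⟨hcS, ?_⟩
        have := hex c hcS
        push_cast
        omega
  rcases key N with h1 | h1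
  · exfalso
    apply hw1
    have h2 : {c | c ∈ S ∧ (N : ℤ) < ht c} = ∅ := by
      ext c
      simp only [Set.mem_ofPred_eq, Set.mem_empty_iff_false, iff_false, not_and, not_lt]
      intro hcS
      exact hN c (hS hcS).1
    rw [h2] at h1
    unfold XS at h1
    rw [Set.image_empty, Subgroup.closure_empty, mem_bot] at h1
    exact h1
  · exact h1

/-- clearing the roots `c` with `B c b = 1` -/
theorem clear {R : List L} {b : L} (hb : b ∈ PO B Φ ht R) {y : Y}
    (hy : y ∈ XS x {c | c ∈ PO B Φ ht R ∧ ht b < ht c}) (n : ℕ) :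
    ∃ g ∈ XS x (PO B Φ ht R), ∃ y' ∈ XS x {c | c ∈ PO B Φ ht R ∧ ht b < ht c ∧ (B c b ≤ 0 ∨ (n : ℤ) < ht c)},
      g * (x b * y) * g⁻¹ = x b * y' := by
  induction n with
  | zero =>
    refine ⟨1, one_mem _, y, XS_mono ?_ hy, by group⟩
    exact fun c hc => ⟨hc.1, hc.2, Or.inr hc.1.1.2⟩
  | succ n ih =>
    obtain ⟨g, hg, y', hy', he⟩ := ih
    by_cases hex : ∃ c ∈ PO B Φ ht R, ht c = n + 1 ∧ 0 < B c b ∧ ht b < ht c
    swap
    · refine ⟨g, hg, y', XS_mono ?_ hy', he⟩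
      rintro c ⟨hcR, hcb, hc⟩
      refine ⟨hcR, hcb, ?_⟩
      by_contra hcon
      push Not at hcon
      obtain ⟨h1, h2⟩ := hcon
      apply hex
      refine ⟨c, hcR, ?_, h1, hcb⟩
      push_cast at h2
      omega
    · obtain ⟨c, hcR, hcn, hcB, hcb⟩ := hex
      have hcΦ := hcR.1.1
      have hbΦ := hb.1.1
      have hBc : B c b = 1 := by
        have h1 := h.rt.le c hcΦ b hbΦ
        have h2 : B c b ≠ 2 := fun h0 => by
          have := h.rt.eq c hcΦ b hbΦ h0
          rw [this] at hcb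
          omega
        omega
      have hBc' : B b c = 1 := by rw [h.rt.symm]; exact hBc
      set d := c - b with hd
      have hdΦ : d ∈ Φ := h.rt.sub_mem hcΦ hbΦ hBc
      have hdht : ht d = ht c - ht b := by rw [hd, map_sub]
      have hdb : B d b = -1 := by rw [hd, h.rt.sub_left, hBc, h.self hbΦ]; norm_num
      have hdc : B d c = 1 := by rw [hd, h.rt.sub_left, h.self hcΦ, hBc']; norm_num
      have hdadd : d + b = c := by rw [hd]; abel
      have hdR : d ∈ PO B Φ ht R := by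
        refine ⟨⟨hdΦ, by omega⟩, fun r hr => ?_⟩
        rw [hd, h.rt.sub_left, hcR.2 r hr, hb.2 r hr, sub_zero]
      set T : Set L := {c | c ∈ PO B Φ ht R ∧ ht b < ht c ∧ (B c b ≤ 0 ∨ ((n + 1 : ℕ) : ℤ) < ht c)} with hT
      have hsub : {c | c ∈ PO B Φ ht R ∧ ht b < ht c ∧ (B c b ≤ 0 ∨ (n : ℤ) < ht c)} ⊆ insert c T := by
        rintro e ⟨heR, heb, he'⟩
        by_cases hec : e = c
        · left; exact hec
        · right
          refine ⟨heR, heb, ?_⟩
          have h1 : ht e ≠ ht c := fun h0 => hec (h.hti e heR.1.1 c hcΦ h0)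
          push_cast
          omega
      -- `x c` normalises
      have hnc : ∀ u ∈ XS x T, x c * u * (x c)⁻¹ ∈ XS x T := by
        intro u hu
        apply h.conj_XS hcΦ (fun e he => he.1.1.1) _ _ hu
        · rintro ⟨h3, -⟩
          have h4 := h3.1.2
          rw [map_neg] at h4
          omega
        · rintro e ⟨heR, heb, he'⟩ hBe
          refine ⟨h.PO_closed R c hcR e heR hBe, ?_, Or.inr ?_⟩
          · have := heR.1.2
            rw [map_add]; omega
          · have := heR.1.2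
            rw [map_add]; push_cast; omega
      have hnd : ∀ u ∈ XS x T, x d * u * (x d)⁻¹ ∈ XS x T := by
        intro u hu
        apply h.conj_XS hdΦ (fun e he => he.1.1.1) _ _ hu
        · rintro ⟨h3, -⟩
          have h4 := h3.1.2
          rw [map_neg] at h4
          have := hdR.1.2
          omega
        · rintro e ⟨heR, heb, he'⟩ hBe
          have := hdR.1.2
          refine ⟨h.PO_closed R d hdR e heR hBe, ?_, Or.inr ?_⟩
          · rw [map_add]; omega
          · rw [map_add]; push_cast; omega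
      rcases h.mem_insert hcΦ hnc (XS_mono hsub hy') with h1 | h1
      · exact ⟨g, hg, y', h1, he⟩
      · refine ⟨x d * g, mul_mem (mem_XS hdR) hg, x d * (x c * y') * (x d)⁻¹, hnd _ h1, ?_⟩
        have e1 : x d * g * (x b * y) * (x d * g)⁻¹ = x d * (g * (x b * y) * g⁻¹) * (x d)⁻¹ := by group
        rw [e1, he]
        have e2 : x d * x b * (x d)⁻¹ = x b * x c := by
          rw [h.conj_neg hdΦ hbΦ hdb, hdadd]
        have e3 : x d * x c * (x d)⁻¹ = x c := h.conj_pos hdΦ hcΦ (by omega)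
        calc x d * (x b * y') * (x d)⁻¹ = (x d * x b * (x d)⁻¹) * (x d * y' * (x d)⁻¹) := by group
          _ = x b * (x c * (x d * y' * (x d)⁻¹)) := by rw [e2, mul_assoc]
          _ = x b * ((x d * x c * (x d)⁻¹) * (x d * y' * (x d)⁻¹)) := by rw [e3]
          _ = x b * (x d * (x c * y') * (x d)⁻¹) := by group

/-- an element of `XS x {c ∈ PO R | ..}` commuting with `x b` and `x (-b)` lies in `XS x (PO (b :: R))` -/
theorem mem_PO_cons {R : List L} (hR : ∀ r ∈ R, r ∈ Φ) {b : L} (hb : b ∈ Φ) {y : Y} (hy : y ∈ XS x (PO B Φ ht R))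
    (h1 : y * x b = x b * y) (h2 : y * x (-b) = x (-b) * y) : y ∈ XS x (PO B Φ ht (b :: R)) := by
  let F : List (L →+ ℤ) := ht :: fB h.rt b :: fB h.rt (-b) :: (R.map (fB h.rt) ++ R.map fun r => fB h.rt (-r))
  apply h.inter_mem (F := F)
  · intro f hf
    simp only [F, List.mem_cons, List.mem_append, List.mem_map] at hf
    rcases hf with rfl | rfl | rfl | ⟨r, hr, rfl⟩ | ⟨r, hr, rfl⟩
    · refine XS_mono ?_ hy
      exact fun c hc => ⟨hc.1.1, hc.1.2.le⟩
    · exact h.cent b hb y h1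
    · exact h.cent (-b) (h.rt.neg_mem b hb) y h2
    · refine XS_mono ?_ hy
      exact fun c hc => ⟨hc.1.1, by rw [fB_apply, hc.2 r hr]⟩
    · refine XS_mono ?_ hy
      exact fun c hc => ⟨hc.1.1, by rw [fB_apply, h.rt.neg_right, hc.2 r hr]; norm_num⟩
  · intro c hc hF
    have g0 := hF ht (by simp [F])
    have g1 := hF (fB h.rt b) (by simp [F])
    have g2 := hF (fB h.rt (-b)) (by simp [F])
    rw [fB_apply] at g1 g2
    rw [h.rt.neg_right] at g2
    have g3 := h.ht0 c hc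
    refine ⟨⟨hc, by omega⟩, fun r hr => ?_⟩
    rcases List.mem_cons.mp hr with rfl | hr
    · omega
    · have g4 := hF (fB h.rt r) (by
        simp only [F, List.mem_cons, List.mem_append, List.mem_map]
        right; right; right; left; exact ⟨r, hr, rfl⟩)
      have g5 := hF (fB h.rt (-r)) (by
        simp only [F, List.mem_cons, List.mem_append, List.mem_map]
        right; right; right; right; exact ⟨r, hr, rfl⟩)
      rw [fB_apply] at g4 g5
      rw [h.rt.neg_right] at g5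
      omega

/-- **Classes of involutions.** -/
theorem exists_conj_pr : ∀ (n : ℕ) (R : List L), (∀ r ∈ R, r ∈ Φ) → (PO B Φ ht R).ncard ≤ n →
    ∀ w ∈ XS x (PO B Φ ht R), w * w = 1 →
    ∃ g ∈ XS x (PO B Φ ht R), ∃ F : List L, Ort B Φ F ∧ (∀ a ∈ F, a ∈ PO B Φ ht R) ∧ g * w * g⁻¹ = pr x F := by
  intro n
  induction n with
  | zero =>
    intro R hR hn w hw _
    have hfin : (PO B Φ ht R).Finite := h.rt.fin.subset fun c hc => hc.1.1
    have h1 : PO B Φ ht R = ∅ := by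
      rw [← Set.ncard_eq_zero hfin]; omega
    refine ⟨1, one_mem _, [], Ort.nil, by simp, ?_⟩
    rw [h1] at hw
    unfold XS at hw
    rw [Set.image_empty, Subgroup.closure_empty, mem_bot] at hw
    rw [hw]; simp
  | succ n ih =>
    intro R hR hn w hw hw2
    by_cases hw1 : w = 1
    · exact ⟨1, one_mem _, [], Ort.nil, by simp, by rw [hw1]; simp⟩
    obtain ⟨b, hb, y, hy, hwy⟩ := h.exists_lowest PO_pos (h.PO_closed R) hw hw1
    obtain ⟨N, hN⟩ := h.exists_bound
    obtain ⟨g, hg, y', hy', he⟩ := h.clear hb hy N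
    have hbΦ := hb.1.1
    have hnb := h.rt.neg_mem b hbΦ
    have hyR : y' ∈ XS x (PO B Φ ht R) := XS_mono (fun c hc => hc.1) hy'
    -- `y'` commutes with `x (-b)`
    have c1 : x (-b) * y' = y' * x (-b) := by
      apply comm_XS _ hy'
      rintro c ⟨hcR, -, hc⟩
      apply h.comm _ hnb c hcR.1.1
      rw [h.rt.neg_left, h.rt.symm]
      have := hN c hcR.1.1
      omega
    -- `(x b * y')² = 1`
    have hsq : (x b * y') * (x b * y') = 1 := by
      rw [← he, ← hwy]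
      calc g * w * g⁻¹ * (g * w * g⁻¹) = g * (w * w) * g⁻¹ := by group
        _ = 1 := by rw [hw2]; group
    have c2 : x b * y' * x b = y'⁻¹ := by
      apply eq_inv_of_mul_eq_one_left
      rw [mul_assoc]; exact hsq
    have hbr := h.braid b hbΦ
    have hb2 := h.sq b hbΦ
    have hn2 := h.sq _ hnb
    -- `y'` commutes with `x b`
    have c3 : x (-b) * (x b * y' * x b) = x b * y' * x b * x (-b) := by
      rw [c2]
      have := c1
      calc x (-b) * y'⁻¹ = y'⁻¹ * (y' * x (-b)) * y'⁻¹ := by group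
        _ = y'⁻¹ * (x (-b) * y') * y'⁻¹ := by rw [c1]
        _ = y'⁻¹ * x (-b) := by group
    have c4 : (x b * x (-b) * x b) * y' = y' * (x b * x (-b) * x b) := by
      have e1 : (x b * x (-b) * x b) * y' = x b * (x (-b) * (x b * y' * x b)) * x b := by
        calc (x b * x (-b) * x b) * y' = x b * x (-b) * x b * y' * 1 := by group
          _ = x b * x (-b) * x b * y' * (x b * x b) := by rw [hb2]
          _ = _ := by group
      rw [e1, c3]
      calc x b * (x b * y' * x b * x (-b)) * x b = (x b * x b) * y' * (x b * x (-b) * x b) := by group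
        _ = _ := by rw [hb2, one_mul]
    rw [hbr] at c4
    have c5 : x b * y' = y' * x b := by
      have e1 : x b * y' = x (-b) * ((x (-b) * x b * x (-b)) * y') * x (-b) := by
        calc x b * y' = 1 * x b * y' * 1 := by group
          _ = (x (-b) * x (-b)) * x b * y' * (x (-b) * x (-b)) := by rw [hn2]
          _ = x (-b) * x (-b) * x b * (y' * x (-b)) * x (-b) := by group
          _ = x (-b) * x (-b) * x b * (x (-b) * y') * x (-b) := by rw [c1]
          _ = _ := by group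
      rw [e1, c4]
      calc x (-b) * (y' * (x (-b) * x b * x (-b))) * x (-b)
          = (x (-b) * y') * (x (-b) * x b) * (x (-b) * x (-b)) := by group
        _ = (y' * x (-b)) * (x (-b) * x b) * (x (-b) * x (-b)) := by rw [c1]
        _ = y' * (x (-b) * x (-b)) * x b * (x (-b) * x (-b)) := by group
        _ = y' * x b := by rw [hn2]; group
    have hy'' : y' ∈ XS x (PO B Φ ht (b :: R)) := h.mem_PO_cons hR hbΦ hyR c5.symm c1.symm
    have hsq' : y' * y' = 1 := by
      have e1 : (x b * y') * (x b * y') = (x b * x b) * (y' * y') := by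
        calc (x b * y') * (x b * y') = (x b * y') * (y' * x b) := by rw [c5]
          _ = x b * (y' * y') * x b := by group
          _ = x b * (y' * (y' * x b)) := by group
          _ = x b * (y' * (x b * y')) := by rw [c5]
          _ = x b * ((y' * x b) * y') := by group
          _ = x b * ((x b * y') * y') := by rw [c5]
          _ = _ := by group
      rw [hsq, hb2, one_mul] at e1
      exact e1.symm
    have hlt : (PO B Φ ht (b :: R)).ncard ≤ n := by
      have hfin : (PO B Φ ht R).Finite := h.rt.fin.subset fun c hc => hc.1.1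
      have h3 : PO B Φ ht (b :: R) ⊂ PO B Φ ht R := by
        refine ⟨PO_cons, fun h4 => ?_⟩
        have h5 := (h4 hb).2 b List.mem_cons_self
        rw [h.self hbΦ] at h5
        omega
      have h4 := Set.ncard_lt_ncard h3 hfin
      omega
    obtain ⟨g', hg', F, hF, hFm, hgF⟩ := ih (b :: R) (by
      intro r hr
      rcases List.mem_cons.mp hr with rfl | hr
      · exact hbΦ
      · exact hR r hr) hlt y' hy'' hsq'
    refine ⟨g' * g, mul_mem (XS_mono PO_cons hg') hg, b :: F, Ort.cons hbΦ hF ?_, ?_, ?_⟩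
    · intro c hc
      rw [h.rt.symm]
      exact (hFm c hc).2 b List.mem_cons_self
    · intro c hc
      rcases List.mem_cons.mp hc with rfl | hc
      · exact hb
      · exact PO_cons (hFm c hc)
    · have e1 : g' * g * w * (g' * g)⁻¹ = g' * (g * w * g⁻¹) * g'⁻¹ := by group
      rw [e1, hwy, he, pr_cons]
      have c6 : x b * g' = g' * x b := by
        apply comm_XS _ hg'
        rintro c hc
        apply h.comm b hbΦ c hc.1.1
        rw [h.rt.symm, hc.2 b List.mem_cons_self]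
      calc g' * (x b * y') * g'⁻¹ = (g' * x b) * y' * g'⁻¹ := by group
        _ = (x b * g') * y' * g'⁻¹ := by rw [c6]
        _ = x b * (g' * y' * g'⁻¹) := by group
        _ = _ := by rw [hgF]

/-- **Classes of involutions of the positive unipotent group.** -/
theorem exists_conj {w : Y} (hw : w ∈ XS x (Pos Φ ht)) (hw2 : w * w = 1) :
    ∃ g ∈ XS x (Pos Φ ht), ∃ F : List L, Ort B Φ F ∧ (∀ a ∈ F, a ∈ Pos Φ ht) ∧ g * w * g⁻¹ = pr x F := by
  have e : PO B Φ ht [] = Pos Φ ht := by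
    ext c
    simp [PO]
  obtain ⟨g, hg, F, hF, hFm, hgF⟩ := h.exists_conj_pr _ [] (by simp) le_rfl w (by rw [e]; exact hw) hw2
  rw [e] at hg
  exact ⟨g, hg, F, hF, fun a ha => (hFm a ha).1, hgF⟩

end RE

end Cfsg.Agent.OddHalf.D4.En2

end

-- merged: Cfsg.Agent.OddHalf.D4.En2.NoSiegel
section

/-!
# ODD, D4, `E_n(2)`: no Siegel elements (text: helper305 #11622 (A))

`noSiegel`: an element `k` of the positive unipotent group with `[C_Q(w), k] ≤ ⟨w⟩` lies in `Q = Q_ρ`.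
-/

set_option autoImplicit false
set_option linter.unusedSectionVars false

namespace Cfsg.Agent.OddHalf.D4.En2

open Subgroup Cfsg.Agent.OddHalf.SL.Defs

variable {L Y : Type*} [AddCommGroup L] [Group Y]
variable {B : L → L → ℤ} {Φ : Set L} {x : L → Y} {ht : L →+ ℤ} {ρ : L} {Fl : (L →+ L) → Prop}

/-- the filtration of `Q` -/
def Vt (B : L → L → ℤ) (Φ : Set L) (x : L → Y) (ht : L →+ ℤ) (ρ : L) (t : ℤ) : Subgroup Y :=
  XS x {d | d ∈ Φ ∧ 0 < B d ρ ∧ t < ht d}

theorem Vt_anti {t t' : ℤ} (htt : t ≤ t') : Vt B Φ x ht ρ t' ≤ Vt B Φ x ht ρ t := by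
  refine XS_mono ?_
  exact fun c hc => ⟨hc.1, hc.2.1, lt_of_le_of_lt htt hc.2.2⟩

theorem Vt_le_Q {t : ℤ} : Vt B Φ x ht ρ t ≤ Qs B Φ x ρ := by
  refine XS_mono ?_
  exact fun c hc => ⟨hc.1, hc.2.1⟩

section

variable (h : RE B Φ x ht) (ha : RA B Φ x ht ρ Fl)
include h ha

theorem ht_lt_ρ {d : L} (hd : d ∈ Φ) (h1 : B d ρ = 1) : ht d < ht ρ := by
  have rt := h.rt
  have hs := rt.sub_mem ha.ρmem hd (by rw [rt.symm]; exact h1)
  have h2 := RA.pos_of h ha hs (by rw [rt.sub_left, h.self ha.ρmem, h1]; norm_num)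
  have h3 := h2.2
  rw [map_sub] at h3
  omega

/-- `x d`, `d` positive, normalises `Vt t` -/
theorem Vt_norm {d : L} (hd : d ∈ Pos Φ ht) {t : ℤ} {u : Y} (hu : u ∈ Vt B Φ x ht ρ t) :
    x d * u * (x d)⁻¹ ∈ Vt B Φ x ht ρ t := by
  apply h.conj_XS hd.1 (fun e he => he.1) _ _ hu
  · rintro ⟨h1, h2, -⟩
    have h3 := ha.high d hd.1 hd.2
    rw [h.rt.neg_left] at h2
    omega
  · rintro e ⟨he, he1, he2⟩ hde
    refine ⟨h.rt.add d hd.1 e he hde, ?_, ?_⟩
    · rw [h.rt.add_left]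
      have h3 := ha.high d hd.1 hd.2
      omega
    · rw [map_add]
      have := hd.2
      omega

theorem Vt_norm_U {g : Y} (hg : g ∈ XS x (Pos Φ ht)) {t : ℤ} {u : Y} (hu : u ∈ Vt B Φ x ht ρ t) :
    g * u * g⁻¹ ∈ Vt B Φ x ht ρ t := by
  have h1 : XS x (Pos Φ ht) ≤ normalizer (Vt B Φ x ht ρ t : Set Y) := by
    apply XS_le
    intro c hc
    rw [mem_normalizer_iff]
    intro u
    refine ⟨fun hu => Vt_norm h ha hc hu, fun h3 => ?_⟩
    have h4 := Vt_norm h ha hc h3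
    rw [h.inv hc.1] at h4
    have e : x c * (x c * u * x c) * x c = (x c * x c) * u * (x c * x c) := by group
    rw [e, h.sq c hc.1, one_mul, mul_one] at h4
    exact h4
  exact (mem_normalizer_iff.mp (h1 hg) u).mp hu

/-- the lowest root orthogonal to `ρ` -/
theorem exists_lowest_orth {k : Y} (hk : k ∈ XS x (Pos Φ ht)) (hkQ : k ∉ Qs B Φ x ρ) :
    ∃ c ∈ Pos Φ ht, B c ρ = 0 ∧ ∃ y ∈ XS x {d | d ∈ Pos Φ ht ∧ (0 < B d ρ ∨ ht c < ht d)}, k = x c * y := by
  obtain ⟨N, hN⟩ := h.exists_bound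
  have key : ∀ n : ℕ, k ∈ XS x {d | d ∈ Pos Φ ht ∧ (0 < B d ρ ∨ (n : ℤ) < ht d)} ∨
      ∃ c ∈ Pos Φ ht, B c ρ = 0 ∧ ∃ y ∈ XS x {d | d ∈ Pos Φ ht ∧ (0 < B d ρ ∨ ht c < ht d)}, k = x c * y := by
    intro n
    induction n with
    | zero =>
      left
      refine XS_mono ?_ hk
      exact fun c hc => ⟨hc, Or.inr hc.2⟩
    | succ n ih =>
      rcases ih with ih | ih
      swap
      · right; exact ih
      by_cases hex : ∃ c ∈ Pos Φ ht, B c ρ = 0 ∧ ht c = n + 1
      · obtain ⟨c, hc, hcρ, hcn⟩ := hex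
        have hsub : {d | d ∈ Pos Φ ht ∧ (0 < B d ρ ∨ (n : ℤ) < ht d)} ⊆
            insert c {d | d ∈ Pos Φ ht ∧ (0 < B d ρ ∨ ht c < ht d)} := by
          rintro d ⟨hd, hd'⟩
          by_cases hdc : d = c
          · left; exact hdc
          · right
            refine ⟨hd, ?_⟩
            have h1 : ht d ≠ ht c := fun h0 => hdc (h.hti d hd.1 c hc.1 h0)
            omega
        have h2 := h.mem_insert (T := {d | d ∈ Pos Φ ht ∧ (0 < B d ρ ∨ ht c < ht d)}) hc.1 (fun u hu => by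
          apply h.conj_XS hc.1 (fun d hd => hd.1.1) _ _ hu
          · rintro ⟨⟨-, h3⟩, -⟩
            have h4 := hc.2
            rw [map_neg] at h3
            omega
          · rintro d ⟨hd, hd'⟩ hcd
            refine ⟨h.closed_pos c hc d hd hcd, ?_⟩
            have h4 := hc.2
            have h5 := hd.2
            rw [h.rt.add_left, map_add, hcρ]
            omega) (XS_mono hsub ih)
        rcases h2 with h2 | h2
        · left
          rw [hcn] at h2
          push_cast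
          exact h2
        · right
          exact ⟨c, hc, hcρ, x c * k, h2, (h.cancel hc.1 k).symm⟩
      · left
        push Not at hex
        refine XS_mono ?_ ih
        rintro d ⟨hd, hd'⟩
        refine ⟨hd, ?_⟩
        by_cases h0 : 0 < B d ρ
        · left; exact h0
        · right
          have h1 := ha.high d hd.1 hd.2
          have := hex d hd (by omega)
          push_cast
          omega
  rcases key N with h1 | h1
  · exfalso
    apply hkQ
    refine XS_mono ?_ h1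
    rintro d ⟨hd, hd' | hd'⟩
    · exact ⟨hd.1, hd'⟩
    · exfalso
      have := hN d hd.1
      omega
  · exact h1

/-- `u ∈ Q` with `[k, u] ∈ x (b + c) Vt (ht b + ht c)` -/
def Lead (B : L → L → ℤ) (Φ : Set L) (x : L → Y) (ht : L →+ ℤ) (ρ c : L) (k u : Y) (b : L) : Prop :=
  u ∈ Qs B Φ x ρ ∧ (b ∈ Φ ∧ B b ρ = 1 ∧ B b c = -1) ∧
    ∃ v ∈ Vt B Φ x ht ρ (ht b + ht c), k * u * k⁻¹ * u⁻¹ = x (b + c) * v

theorem lead_root {c : L} (hc : c ∈ Pos Φ ht) (hcρ : B c ρ = 0) {y : Y}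
    (hy : y ∈ XS x {d | d ∈ Pos Φ ht ∧ (0 < B d ρ ∨ ht c < ht d)}) {b : L} (hb : b ∈ Φ) (hbρ : B b ρ = 1)
    (hbc : B b c = -1) : Lead B Φ x ht ρ c (x c * y) (x b) b := by
  have rt := h.rt
  have hbp := RA.pos_of h ha hb (by omega)
  have hcb : B c b = -1 := by rw [rt.symm]; exact hbc
  have hs := rt.add c hc.1 b hb hcb
  have e0 : c + b = b + c := add_comm c b
  have hsρ : B (c + b) ρ = 1 := by rw [rt.add_left, hcρ, hbρ]; norm_num
  have hlt := ht_lt_ρ h ha hs hsρ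
  rw [map_add] at hlt
  -- `y x_b y⁻¹ ∈ x_b V`
  have key : ∀ y ∈ XS x {d | d ∈ Pos Φ ht ∧ (0 < B d ρ ∨ ht c < ht d)},
      (x b)⁻¹ * (y * x b * y⁻¹) ∈ Vt B Φ x ht ρ (ht b + ht c) := by
    intro y hy
    have hyU : ∀ y ∈ XS x {d | d ∈ Pos Φ ht ∧ (0 < B d ρ ∨ ht c < ht d)}, y ∈ XS x (Pos Φ ht) := by
      intro y hy
      refine XS_mono ?_ hy
      exact fun d hd => hd.1
    have hbU : x b ∈ XS x (Pos Φ ht) := mem_XS hbp
    have gen : ∀ d ∈ Pos Φ ht, (0 < B d ρ ∨ ht c < ht d) → (x b)⁻¹ * (x d * x b * (x d)⁻¹) ∈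
        Vt B Φ x ht ρ (ht b + ht c) := by
      intro d hd hd'
      rcases h.cases hd.1 hb with h1 | h1 | h1
      · exfalso
        have := rt.eq_neg hd.1 hb h1
        have h2 := ha.high d hd.1 hd.2
        rw [this, rt.neg_left] at h2
        omega
      · rw [h.conj_neg hd.1 hb h1, inv_mul_cancel_left]
        have hdb := rt.add d hd.1 b hb h1
        apply mem_XS
        refine ⟨hdb, ?_, ?_⟩
        · have h2 := ha.high d hd.1 hd.2
          rw [rt.add_left]; omega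
        · rcases hd' with h2 | h2
          · have h3 : B (d + b) ρ ≤ 2 := rt.le _ hdb ρ ha.ρmem
            rw [rt.add_left] at h3
            have h4 : d + b = ρ := rt.eq _ hdb ρ ha.ρmem (by rw [rt.add_left]; omega)
            rw [h4]; omega
          · rw [map_add]; omega
      · rw [h.conj_pos hd.1 hb (by omega), inv_mul_cancel]
        exact one_mem _
    unfold XS at hy
    induction hy using closure_induction with
    | mem z hz =>
      obtain ⟨d, hd, rfl⟩ := hz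
      exact gen d hd.1 hd.2
    | one => rw [one_mul, inv_one, mul_one, inv_mul_cancel]; exact one_mem _
    | mul y1 y2 hy1 hy2 ih1 ih2 =>
      have e1 : (x b)⁻¹ * (y1 * y2 * x b * (y1 * y2)⁻¹) =
          ((x b)⁻¹ * (y1 * x b * y1⁻¹)) * (y1 * ((x b)⁻¹ * (y2 * x b * y2⁻¹)) * y1⁻¹) := by group
      rw [e1]
      exact mul_mem ih1 (Vt_norm_U h ha (hyU y1 hy1) ih2)
    | inv y1 hy1 ih1 =>
      have h3 : (x b)⁻¹ * (y1⁻¹ * x b * y1⁻¹⁻¹) =
          ((x b)⁻¹ * y1⁻¹ * x b) * (((x b)⁻¹ * (y1 * x b * y1⁻¹))⁻¹) * ((x b)⁻¹ * y1⁻¹ * x b)⁻¹ := by group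
      rw [h3]
      apply Vt_norm_U h ha _ (inv_mem ih1)
      exact mul_mem (mul_mem (inv_mem hbU) (inv_mem (hyU y1 hy1))) hbU
  have hv := key y hy
  set v := (x b)⁻¹ * (y * x b * y⁻¹) with hvd
  refine ⟨mem_XS ⟨hb, by omega⟩, ⟨hb, hbρ, hbc⟩, x b * (x c * v * (x c)⁻¹) * (x b)⁻¹, ?_, ?_⟩
  · exact Vt_norm h ha hbp (Vt_norm h ha hc hv)
  · have h1 : x c * x b * (x c)⁻¹ = x b * x (b + c) := by
      rw [h.conj_neg hc.1 hb hcb, e0]
    have h2 : x b * x (b + c) = x (b + c) * x b := by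
      apply h.comm b hb _ (by rw [← e0]; exact hs)
      rw [rt.add_right, h.self hb, hbc]; norm_num
    calc x c * y * x b * (x c * y)⁻¹ * (x b)⁻¹
        = (x c * x b * (x c)⁻¹) * (x c * ((x b)⁻¹ * (y * x b * y⁻¹)) * (x c)⁻¹) * (x b)⁻¹ := by group
      _ = (x b * x (b + c)) * (x c * v * (x c)⁻¹) * (x b)⁻¹ := by rw [h1, hvd]
      _ = x (b + c) * (x b * (x c * v * (x c)⁻¹) * (x b)⁻¹) := by rw [h2]; group

theorem Lead.mul {c : L} {k u u' : Y} {b b' : L} (h1 : Lead B Φ x ht ρ c k u b) (h2 : Lead B Φ x ht ρ c k u' b')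
    (hlt : ht b < ht b') (hcρ : B c ρ = 0) (hc : c ∈ Pos Φ ht) : Lead B Φ x ht ρ c k (u * u') b := by
  have rt := h.rt
  obtain ⟨huQ, hb, v, hv, e⟩ := h1
  obtain ⟨huQ', hb', v', hv', e'⟩ := h2
  have h3 : x (b' + c) * v' ∈ Vt B Φ x ht ρ (ht b + ht c) := by
    apply mul_mem
    · apply mem_XS
      refine ⟨rt.add b' hb'.1 c hc.1 hb'.2.2, ?_, ?_⟩
      · rw [rt.add_left, hb'.2.1, hcρ]; norm_num
      · rw [map_add]; omega
    · exact Vt_anti (by omega) hv'
  refine ⟨mul_mem huQ huQ', hb, v * (u * (x (b' + c) * v') * u⁻¹), ?_, ?_⟩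
  · apply mul_mem hv
    exact Vt_norm_U h ha (RA.Qρ_le h ha huQ) h3
  · calc k * (u * u') * k⁻¹ * (u * u')⁻¹ = (k * u * k⁻¹ * u⁻¹) * (u * (k * u' * k⁻¹ * u'⁻¹) * u⁻¹) := by group
      _ = _ := by rw [e, e', mul_assoc]

theorem Lead.ne {c : L} {k u : Y} {b : L} (h1 : Lead B Φ x ht ρ c k u b) (hcρ : B c ρ = 0) (hc : c ∈ Pos Φ ht) :
    k * u * k⁻¹ * u⁻¹ ≠ 1 := by
  have rt := h.rt
  obtain ⟨huQ, hb, v, hv, e⟩ := h1
  rw [e]
  intro h0
  have hs := rt.add b hb.1 c hc.1 hb.2.2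
  have hsp := RA.pos_of h ha hs (by rw [rt.add_left, hb.2.1, hcρ]; norm_num)
  have hmem : x (b + c) ∈ Vt B Φ x ht ρ (ht b + ht c) := by
    rw [mul_eq_one_iff_eq_inv] at h0
    rw [h0]; exact inv_mem hv
  refine h.notMem_of_notMem ?_ ?_ hsp ?_ hmem
  · exact fun d hd => RA.pos_of h ha hd.1 hd.2.1
  · rintro d ⟨hd, hd1, hd2⟩ e ⟨he, he1, he2⟩ hde
    have p1 := (RA.pos_of h ha hd hd1).2
    refine ⟨rt.add d hd e he hde, ?_, ?_⟩
    · rw [rt.add_left]; omega
    · rw [map_add]; omega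
  · rintro ⟨-, -, h3⟩
    rw [map_add] at h3
    omega

/-- the two-dimensional contradiction -/
theorem lead_two {c : L} {k w p q : Y} {b b' : L} (hcρ : B c ρ = 0) (hc : c ∈ Pos Φ ht) (hw2 : w * w = 1)
    (hk : ∀ v ∈ Qs B Φ x ρ, v * w = w * v → k * v * k⁻¹ * v⁻¹ = 1 ∨ k * v * k⁻¹ * v⁻¹ = w)
    (h1 : Lead B Φ x ht ρ c k p b) (h2 : Lead B Φ x ht ρ c k q b') (hlt : ht b < ht b') (hp : p * w = w * p)
    (hq : q * w = w * q) : False := by
  have e1 := (hk p h1.1 hp).resolve_left (h1.ne h ha hcρ hc)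
  have e2 := (hk q h2.1 hq).resolve_left (h2.ne h ha hcρ hc)
  apply (h1.mul h ha h2 hlt hcρ hc).ne h ha hcρ hc
  calc k * (p * q) * k⁻¹ * (p * q)⁻¹ = (k * p * k⁻¹ * p⁻¹) * (p * (k * q * k⁻¹ * q⁻¹) * p⁻¹) := by group
    _ = w * (p * w * p⁻¹) := by rw [e1, e2]
    _ = w * w := by rw [hp]; group
    _ = 1 := hw2

theorem lead_three {c : L} {k w : Y} {u1 u2 u3 : Y} {b1 b2 b3 : L} (hcρ : B c ρ = 0) (hc : c ∈ Pos Φ ht)
    (hwQ : w ∈ Qs B Φ x ρ) (hw2 : w * w = 1)
    (hk : ∀ v ∈ Qs B Φ x ρ, v * w = w * v → k * v * k⁻¹ * v⁻¹ = 1 ∨ k * v * k⁻¹ * v⁻¹ = w)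
    (h1 : Lead B Φ x ht ρ c k u1 b1) (h2 : Lead B Φ x ht ρ c k u2 b2) (h3 : Lead B Φ x ht ρ c k u3 b3)
    (h12 : ht b1 < ht b2) (h23 : ht b2 < ht b3) : False := by
  have hz := h.sq ρ ha.ρmem
  have hcen : ∀ u ∈ Qs B Φ x ρ, x ρ * u = u * x ρ := fun u hu => h.Q_central ha.ρmem hu
  have hd : ∀ u ∈ Qs B Φ x ρ, u * w = w * u ∨ u * w = x ρ * (w * u) := fun u hu => h.Q_comm ha.ρmem hu hwQ
  have hprod : ∀ u ∈ Qs B Φ x ρ, ∀ v ∈ Qs B Φ x ρ, u * w = x ρ * (w * u) → v * w = x ρ * (w * v) →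
      (u * v) * w = w * (u * v) := by
    intro u hu v hv e1 e2
    calc (u * v) * w = u * (v * w) := by group
      _ = (u * x ρ) * w * v := by rw [e2]; group
      _ = x ρ * (u * w) * v := by rw [← hcen u hu]; group
      _ = (x ρ * x ρ) * (w * u) * v := by rw [e1]; group
      _ = w * (u * v) := by rw [hz]; group
  rcases hd u1 h1.1 with s1 | s1 <;> rcases hd u2 h2.1 with s2 | s2 <;> rcases hd u3 h3.1 with s3 | s3
  · exact lead_two h ha hcρ hc hw2 hk h1 h2 h12 s1 s2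
  · exact lead_two h ha hcρ hc hw2 hk h1 h2 h12 s1 s2
  · exact lead_two h ha hcρ hc hw2 hk h1 h3 (by omega) s1 s3
  · exact lead_two h ha hcρ hc hw2 hk h1 (h2.mul h ha h3 h23 hcρ hc) h12 s1 (hprod _ h2.1 _ h3.1 s2 s3)
  · exact lead_two h ha hcρ hc hw2 hk h2 h3 h23 s2 s3
  · exact lead_two h ha hcρ hc hw2 hk (h1.mul h ha h3 (by omega) hcρ hc) h2 h12 (hprod _ h1.1 _ h3.1 s1 s3) s2
  · exact lead_two h ha hcρ hc hw2 hk (h1.mul h ha h2 h12 hcρ hc) h3 (by omega) (hprod _ h1.1 _ h2.1 s1 s2) s3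
  · exact lead_two h ha hcρ hc hw2 hk (h1.mul h ha h2 h12 hcρ hc) (h2.mul h ha h3 h23 hcρ hc) h12
      (hprod _ h1.1 _ h2.1 s1 s2) (hprod _ h2.1 _ h3.1 s2 s3)

/-- **No Siegel elements.** -/
theorem noSiegel {k w : Y} (hkU : k ∈ XS x (Pos Φ ht)) (hwQ : w ∈ Qs B Φ x ρ) (hw2 : w * w = 1)
    (hk : ∀ v ∈ Qs B Φ x ρ, v * w = w * v → k * v * k⁻¹ * v⁻¹ = 1 ∨ k * v * k⁻¹ * v⁻¹ = w) :
    k ∈ Qs B Φ x ρ := by
  have rt := h.rt
  by_contra hkQ
  obtain ⟨c, hc, hcρ, y, hy, rfl⟩ := exists_lowest_orth h ha hkU hkQ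
  have hcΦ := hc.1
  have hρ := ha.ρmem
  have hρc : B ρ c = 0 := by rw [rt.symm]; exact hcρ
  obtain ⟨m, hm, m1, m2⟩ := h.orth ρ hρ c hcΦ hρc
  obtain ⟨m', hm', m3, m4, m5⟩ := h.quad ρ hρ (-c) (rt.neg_mem c hcΦ) m hm (by rw [rt.neg_right, hρc, neg_zero]) m1
    (by rw [rt.neg_right, m2]; norm_num)
  rw [rt.neg_right] at m4
  have m4' : B m' c = -1 := by omega
  have s1 : ρ - m ∈ Φ := rt.sub_mem hρ hm (by rw [rt.symm]; exact m1)
  have s2 : B (ρ - m) c = 1 := by rw [rt.sub_left, hρc, m2]; norm_num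
  have s3 := rt.sub_mem s1 hcΦ s2
  have s4 : B (ρ - m - c) ρ = 1 := by rw [rt.sub_left, rt.sub_left, h.self hρ, m1, hcρ]; norm_num
  have s5 : B (ρ - m - c) c = -1 := by rw [rt.sub_left, s2, h.self hcΦ]; norm_num
  have s6 : B (ρ - m - c) m = 0 := by
    rw [rt.sub_left, rt.sub_left, rt.symm ρ m, m1, h.self hm, rt.symm c m, m2]; norm_num
  have s7 : B (ρ - m - c) m' = 1 := by
    rw [rt.sub_left, rt.sub_left, rt.symm ρ m', m3, rt.symm m m', m5, rt.symm c m', m4']; norm_num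
  have d1 : ht m ≠ ht m' := by
    intro h0
    have := h.hti m hm m' hm' h0
    rw [this, h.self hm'] at m5
    omega
  have d2 : ht m ≠ ht (ρ - m - c) := by
    intro h0
    have := h.hti m hm _ s3 h0
    rw [← this, h.self hm] at s6
    omega
  have d3 : ht m' ≠ ht (ρ - m - c) := by
    intro h0
    have := h.hti m' hm' _ s3 h0
    rw [← this, h.self hm'] at s7
    omega
  have l1 := lead_root h ha hc hcρ hy hm m1 m2
  have l2 := lead_root h ha hc hcρ hy hm' m3 m4'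
  have l3 := lead_root h ha hc hcρ hy s3 s4 s5
  rcases lt_or_gt_of_ne d1 with a1 | a1 <;> rcases lt_or_gt_of_ne d2 with a2 | a2 <;>
    rcases lt_or_gt_of_ne d3 with a3 | a3
  · exact lead_three h ha hcρ hc hwQ hw2 hk l1 l2 l3 a1 a3
  · exact lead_three h ha hcρ hc hwQ hw2 hk l1 l3 l2 a2 a3
  · omega
  · exact lead_three h ha hcρ hc hwQ hw2 hk l3 l1 l2 a2 a1
  · exact lead_three h ha hcρ hc hwQ hw2 hk l2 l1 l3 a1 a2
  · omega
  · exact lead_three h ha hcρ hc hwQ hw2 hk l2 l3 l1 a3 a2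
  · exact lead_three h ha hcρ hc hwQ hw2 hk l3 l2 l1 a3 a1

end

end Cfsg.Agent.OddHalf.D4.En2

end

-- merged: Cfsg.Agent.OddHalf.D4.En2.CaseA
section

/-!
# ODD, D4, `E_n(2)`: case (A): `N ∩ O_2(C(e)) ≠ 1` for a root element `e` centralised by `α`, `β`
(text: helper305 #11622 (A))
-/

set_option autoImplicit false
set_option linter.unusedSectionVars false

namespace Cfsg.Agent.OddHalf.D4.En2

open Subgroup Cfsg.Agent.OddHalf.SL.Defs Cfsg.Agent.OddHalf.D4.Basic

variable {L Y : Type*} [AddCommGroup L] [Group Y]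
variable {B : L → L → ℤ} {Φ : Set L} {x : L → Y} {ht : L →+ ℤ} {ρ : L} {Fl : (L →+ L) → Prop}

/-- nondegeneracy of the commutator form on `Q` -/
theorem RE.nondeg (h : RE B Φ x ht) {a : L} (ha : a ∈ Φ) {w n : Y} (hw : w ∈ Qs B Φ x a) (hn : n ∈ Qs B Φ x a)
    (hw1 : w ≠ 1) (hwa : w ≠ x a) (hw2 : w * w = 1)
    (hc : ∀ v ∈ Qs B Φ x a, v * w = w * v → v * n = n * v) : n = 1 ∨ n = x a ∨ n = w ∨ n = x a * w := by
  have hz := h.sq a ha
  have hcen : ∀ u ∈ Qs B Φ x a, x a * u = u * x a := fun u hu => h.Q_central ha hu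
  -- an element `q` not commuting with `w`
  obtain ⟨c, hcΦ, hca, hcw⟩ : ∃ c ∈ Φ, B c a = 1 ∧ w * x c ≠ x c * w := by
    by_contra hcon
    push Not at hcon
    rcases h.Q_center ha hw fun c hc hca => hcon c hc hca with h1 | h1
    · exact hw1 h1
    · exact hwa h1
  have hq : x c ∈ Qs B Φ x a := mem_XS ⟨hcΦ, by omega⟩
  set q := x c with hqd
  have hwq : w * q = x a * (q * w) := (h.Q_comm ha hw hq).resolve_left hcw
  -- the first case
  have first : ∀ n ∈ Qs B Φ x a, (∀ v ∈ Qs B Φ x a, v * w = w * v → v * n = n * v) → n * q = q * n →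
      n = 1 ∨ n = x a := by
    intro n hn hc hnq
    apply h.Q_center ha hn
    intro d hd hda
    have hd' : x d ∈ Qs B Φ x a := mem_XS ⟨hd, by omega⟩
    rcases h.Q_comm ha hw hd' with h1 | h1
    · exact (hc _ hd' h1.symm).symm
    · have h2 : (x d * q) * w = w * (x d * q) := by
        have e1 : q * w = x a * (w * q) := by rw [hwq, ← mul_assoc, hz, one_mul]
        calc (x d * q) * w = x d * (q * w) := by group
          _ = (x d * x a) * w * q := by rw [e1]; group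
          _ = (x a * (x d * w)) * q := by rw [← hcen _ hd']; group
          _ = w * (x d * q) := by rw [← h1]; group
      have h3 := hc _ (mul_mem hd' hq) h2
      have h4 : x d * n * q = n * x d * q := by
        calc x d * n * q = x d * (n * q) := by group
          _ = (x d * q) * n := by rw [hnq]; group
          _ = n * (x d * q) := h3
          _ = _ := by group
      exact (mul_right_cancel h4).symm
  rcases h.Q_comm ha hn hq with h1 | h1
  · rcases first n hn hc h1 with h2 | h2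
    · left; exact h2
    · right; left; exact h2
  · have h2 : (w * n) * q = q * (w * n) := by
      calc (w * n) * q = w * (n * q) := by group
        _ = (w * x a) * q * n := by rw [h1]; group
        _ = x a * (w * q) * n := by rw [← hcen w hw]; group
        _ = (x a * x a) * (q * w) * n := by rw [hwq]; group
        _ = _ := by rw [hz]; group
    have h3 : ∀ v ∈ Qs B Φ x a, v * w = w * v → v * (w * n) = (w * n) * v := by
      intro v hv hvw
      have h4 := hc v hv hvw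
      calc v * (w * n) = (v * w) * n := by group
        _ = w * (v * n) := by rw [hvw]; group
        _ = _ := by rw [h4]; group
    have hn2 : w * (w * n) = n := by rw [← mul_assoc, hw2, one_mul]
    rcases first _ (mul_mem hw hn) h3 h2 with h4 | h4
    · right; right; left
      rw [h4, mul_one] at hn2; exact hn2.symm
    · right; right; right
      rw [h4, ← hcen w hw] at hn2; exact hn2.symm

theorem orderOf_two {u : Y} (h1 : u ≠ 1) (h2 : u * u = 1) : orderOf u = 2 :=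
  orderOf_eq_prime (by rw [pow_two]; exact h2) h1

section

variable [Finite Y] (h : RE B Φ x ht) (ha : RA B Φ x ht ρ Fl) {α β : MulAut Y} {D N : Subgroup Y}
  (hc : Conf α β D N)
include h ha hc

theorem ρ_notMem : x ρ ∉ N := by
  intro h0
  obtain ⟨S, hS⟩ := ha.syl
  obtain ⟨s, hs, hne⟩ := hc.noCenN _ h0 (orderOf_two (h.ne ρ ha.ρmem) (h.sq ρ ha.ρmem)) S
  apply hne
  have hs' : s ∈ XS x (Pos Φ ht) := by rw [← hS]; exact hs
  exact (RA.U_central h ha hs').symm

theorem conj_ρ_ne {γ : MulAut Y} (hγ : γ = α ∨ γ = β ∨ γ = α * β) : γ ≠ MulAut.conj (x ρ) := by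
  rintro h0
  obtain ⟨S, hS⟩ := ha.syl
  obtain ⟨s, hs, hne⟩ := hc.noCen γ hγ S
  apply hne
  have hs' : s ∈ XS x (Pos Φ ht) := by rw [← hS]; exact hs
  rw [h0, MulAut.conj_apply, RA.U_central h ha hs', mul_inv_cancel_right]

/-- elements of `D ∩ Q` and `N ∩ Q` commute -/
theorem comm_DN {d n : Y} (hd : d ∈ D) (hdQ : d ∈ Qs B Φ x ρ) (hn : n ∈ N) (hnQ : n ∈ Qs B Φ x ρ) :
    d * n = n * d := by
  rcases h.Q_comm ha.ρmem hdQ hnQ with h1 | h1
  · exact h1
  · exfalso
    apply ρ_notMem h ha hc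
    have h2 := N.mul_mem (hc.norm d hd n hn) (N.inv_mem hn)
    have e : d * n * d⁻¹ * n⁻¹ = x ρ := by rw [h1]; group
    rw [e] at h2
    exact h2

/-- the involution of `N ∩ Q` -/
theorem exists_w0 (hne : ∃ n ∈ N, n ∈ Qs B Φ x ρ ∧ n ≠ 1) :
    ∃ w ∈ N, w ∈ Qs B Φ x ρ ∧ w ≠ 1 ∧ w ≠ x ρ ∧ w * w = 1 ∧ (∀ n ∈ N, n ∈ Qs B Φ x ρ → n = 1 ∨ n = w) ∧
      ∀ v ∈ Qs B Φ x ρ, v * w = w * v → v ∈ D := by
  have h2 : IsPGroup 2 ↥(N ⊓ Qs B Φ x ρ : Subgroup Y) := (RA.Q_two h ha ha.ρmem).to_le inf_le_right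
  obtain ⟨w, hw, hw2⟩ := exists_invol_of_two h2 (by
    obtain ⟨n, hn, hnQ, hn1⟩ := hne
    intro h0
    have : n ∈ (N ⊓ Qs B Φ x ρ : Subgroup Y) := ⟨hn, hnQ⟩
    rw [h0, mem_bot] at this
    exact hn1 this)
  have hw1 : w ≠ 1 := by
    rintro rfl
    rw [orderOf_one] at hw2
    omega
  have hww : w * w = 1 := by rw [← pow_two, ← hw2]; exact pow_orderOf_eq_one w
  have hwρ : w ≠ x ρ := by
    rintro rfl
    exact ρ_notMem h ha hc hw.1
  have hD : ∀ v ∈ Qs B Φ x ρ, v * w = w * v → v ∈ D := fun v _ hvw => hc.cenN w hw.1 hw2 v hvw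
  refine ⟨w, hw.1, hw.2, hw1, hwρ, hww, fun n hn hnQ => ?_, hD⟩
  rcases h.nondeg ha.ρmem hw.2 hnQ hw1 hwρ hww (fun v hv hvw => comm_DN h ha hc (hD v hv hvw) hv hn hnQ) with
    h3 | h3 | h3 | h3
  · left; exact h3
  · exfalso
    rw [h3] at hn
    exact ρ_notMem h ha hc hn
  · right; exact h3
  · exfalso
    rw [h3] at hn
    apply ρ_notMem h ha hc
    have h4 := N.mul_mem hn (N.inv_mem hw.1)
    rwa [mul_inv_cancel_right] at h4

/-- an inner `γ` is `w0` or `x ρ * w0` -/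
theorem inner_eq {w : Y} (hwQ : w ∈ Qs B Φ x ρ) (hw1 : w ≠ 1) (hwρ : w ≠ x ρ) (hw2 : w * w = 1)
    (hN : ∀ n ∈ N, n ∈ Qs B Φ x ρ → n = 1 ∨ n = w) (hD : ∀ v ∈ Qs B Φ x ρ, v * w = w * v → v ∈ D)
    {k : Y} (hγ : MulAut.conj k = α ∨ MulAut.conj k = β ∨ MulAut.conj k = α * β) (hγ1 : MulAut.conj k ≠ 1)
    (hγU : ∀ u ∈ XS x (Pos Φ ht), MulAut.conj k u ∈ XS x (Pos Φ ht)) : k = w ∨ k = x ρ * w := by
  have hkU : k ∈ XS x (Pos Φ ht) := ha.norm k hγU
  have hkρ : k * x ρ = x ρ * k := (RA.U_central h ha hkU).symm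
  have hk : ∀ v ∈ Qs B Φ x ρ, v * w = w * v → k * v * k⁻¹ * v⁻¹ = 1 ∨ k * v * k⁻¹ * v⁻¹ = w := by
    intro v hv hvw
    apply hN
    · exact hc.comm _ hγ v (hD v hv hvw)
    · exact mul_mem (h.Q_norm ha.ρmem hkρ hv) (inv_mem hv)
  have hkQ := noSiegel h ha hkU hwQ hw2 hk
  have hk' : ∀ v ∈ Qs B Φ x ρ, v * w = w * v → v * k = k * v := by
    intro v hv hvw
    rcases h.Q_comm ha.ρmem hkQ hv with h1 | h1
    · exact h1.symm
    · exfalso
      have e : k * v * k⁻¹ * v⁻¹ = x ρ := by rw [h1]; group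
      rcases hk v hv hvw with h2 | h2
      · rw [e] at h2
        exact h.ne ρ ha.ρmem h2
      · rw [e] at h2
        exact hwρ h2.symm
  rcases h.nondeg ha.ρmem hwQ hkQ hw1 hwρ hw2 hk' with h3 | h3 | h3 | h3
  · exfalso
    apply hγ1
    rw [h3, map_one]
  · exfalso
    exact conj_ρ_ne h ha hc hγ (by rw [h3])
  · left; exact h3
  · right; exact h3

/-- **Case (A), all inner.** -/
theorem caseA_inner (hne : ∃ n ∈ N, n ∈ Qs B Φ x ρ ∧ n ≠ 1) (hαU : ∀ u ∈ XS x (Pos Φ ht), α u ∈ XS x (Pos Φ ht))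
    (hβU : ∀ u ∈ XS x (Pos Φ ht), β u ∈ XS x (Pos Φ ht)) {a b : Y} (hα : α = MulAut.conj a)
    (hβ : β = MulAut.conj b) : False := by
  obtain ⟨w, hwN, hwQ, hw1, hwρ, hw2, hN, hD⟩ := exists_w0 h ha hc hne
  have hab1 : α * β ≠ 1 := by
    intro h0
    apply hc.ne
    have h1 := hc.aa
    have h2 : α * (α * β) = α := by rw [h0, mul_one]
    rw [← mul_assoc, h1, one_mul] at h2
    exact h2.symm
  have e1 := inner_eq h ha hc hwQ hw1 hwρ hw2 hN hD (k := a) (Or.inl hα.symm) (by rw [← hα]; exact hc.a1)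
    (by rw [← hα]; exact hαU)
  have e2 := inner_eq h ha hc hwQ hw1 hwρ hw2 hN hD (k := b) (Or.inr (Or.inl hβ.symm)) (by rw [← hβ]; exact hc.b1)
    (by rw [← hβ]; exact hβU)
  have e3 := inner_eq h ha hc hwQ hw1 hwρ hw2 hN hD (k := a * b)
    (Or.inr (Or.inr (by rw [map_mul, hα, hβ]))) (by rw [map_mul, ← hα, ← hβ]; exact hab1)
    (by rw [map_mul, ← hα, ← hβ]; exact fun u hu => hαU _ (hβU u hu))
  have hz := h.sq ρ ha.ρmem
  have hcw : x ρ * w = w * x ρ := h.Q_central ha.ρmem hwQ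
  have f1 : w * (x ρ * w) = x ρ := by rw [hcw, ← mul_assoc, hw2, one_mul]
  have f2 : x ρ * w * w = x ρ := by rw [mul_assoc, hw2, mul_one]
  have f3 : x ρ * w * (x ρ * w) = 1 := by
    calc x ρ * w * (x ρ * w) = x ρ * (w * (x ρ * w)) := by group
      _ = 1 := by rw [f1, hz]
  have key : ∀ t : Y, (t = 1 ∨ t = x ρ) → ¬ (t = w ∨ t = x ρ * w) := by
    rintro t (rfl | rfl) (h1 | h1)
    · exact hw1 h1.symm
    · apply hwρ
      have h2 : x ρ * (x ρ * w) = x ρ := by rw [← h1, mul_one]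
      rw [← mul_assoc, hz, one_mul] at h2
      exact h2
    · exact hwρ h1.symm
    · apply hw1
      have h2 : x ρ * (x ρ * w) = x ρ * x ρ := by rw [← h1]
      rw [← mul_assoc, hz, one_mul] at h2
      exact h2
  apply key (a * b) _ e3
  rcases e1 with rfl | rfl <;> rcases e2 with rfl | rfl
  · left; exact hw2
  · right; exact f1
  · right; exact f2
  · left; exact f3

end

end Cfsg.Agent.OddHalf.D4.En2

end

-- merged: Cfsg.Agent.OddHalf.D4.En2.Comb
section

/-!
# ODD, D4, `E_n(2)`: cones of orthogonal sets of roots (text: helper305 #11622 (D), (E))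

`Cone F = {a : ⟨a, r⟩ ≥ 0 for all r ∈ F}`, `F` a set of pairwise orthogonal roots.
* `conn` : `Cone F` is connected under `⟨a, a'⟩ = 1`;
* `cone_cone` : `⟨b, s⟩ ≥ 0` for all `s ∈ Cone F` implies `b ∈ F` or `2 b = r₁ + r₂ + r₃ + r₄`.
-/

set_option autoImplicit false
set_option linter.unusedSectionVars false

namespace Cfsg.Agent.OddHalf.D4.En2

open Subgroup Cfsg.Agent.OddHalf.SL.Defs

variable {L Y : Type*} [AddCommGroup L] [Group Y]
variable {B : L → L → ℤ} {Φ : Set L} {x : L → Y} {ht : L →+ ℤ}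

/-- the cone of `F` -/
def Cone (B : L → L → ℤ) (Φ : Set L) (F : List L) : Set L := {c | c ∈ Φ ∧ ∀ r ∈ F, 0 ≤ B c r}

/-- Adding to `c` the roots `r ∈ F` with `⟨c, r⟩ = -1`. -/
theorem exists_plus (rt : Roots B Φ) {F : List L} (hF : Ort B Φ F) {c : L} (hc : c ∈ Φ)
    (hne : ∀ r ∈ F, B c r ≠ -2) :
    ∃ c' ∈ Φ, (∀ r ∈ F, 0 ≤ B c' r) ∧ (∀ y, (∀ r ∈ F, 0 ≤ B r y) → B c y ≤ B c' y) ∧
      (∀ y, (∀ r ∈ F, B c r = -1 → B r y = 0) → B c' y = B c y) ∧
      (∀ f : L →+ ℤ, (∀ r ∈ F, 0 ≤ f r) → f c ≤ f c') ∧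
      (∀ τ : L →+ L, (∀ r ∈ F, τ r = r) → τ c' - c' = τ c - c) := by
  induction F with
  | nil =>
    exact ⟨c, hc, by simp, fun _ _ => le_rfl, fun _ _ => rfl, fun _ _ => le_rfl, fun _ _ => rfl⟩
  | cons r F ih =>
    obtain ⟨c1, hc1, h1, h2, h3, h4, h5⟩ := ih hF.tail fun s hs => hne s (List.mem_cons_of_mem _ hs)
    have hr := hF.head
    have e1 : B c1 r = B c r := h3 r fun s hs _ => by rw [rt.symm]; exact hF.orth s hs
    have hcr : -2 ≤ B c r := rt.ge hc hr
    have hcr' := hne r List.mem_cons_self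
    by_cases h6 : B c r = -1
    · refine ⟨c1 + r, rt.add c1 hc1 r hr (by rw [e1, h6]), ?_, ?_, ?_, ?_, ?_⟩
      · intro s hs
        rcases List.mem_cons.mp hs with rfl | hs
        · rw [rt.add_left, e1, h6, rt.two _ hr]; norm_num
        · rw [rt.add_left, hF.orth s hs, add_zero]
          exact h1 s hs
      · intro y hy
        have h7 := h2 y fun s hs => hy s (List.mem_cons_of_mem _ hs)
        have h8 := hy r List.mem_cons_self
        rw [rt.add_left]; omega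
      · intro y hy
        rw [rt.add_left, hy r List.mem_cons_self h6, add_zero]
        exact h3 y fun s hs => hy s (List.mem_cons_of_mem _ hs)
      · intro f hf
        have h7 := h4 f fun s hs => hf s (List.mem_cons_of_mem _ hs)
        have h8 := hf r List.mem_cons_self
        rw [map_add]; omega
      · intro τ hτ
        have h7 := h5 τ fun s hs => hτ s (List.mem_cons_of_mem _ hs)
        rw [map_add, hτ r List.mem_cons_self, ← h7]
        abel
    · refine ⟨c1, hc1, ?_, ?_, ?_, ?_, ?_⟩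
      · intro s hs
        rcases List.mem_cons.mp hs with rfl | hs
        · rw [e1]; omega
        · exact h1 s hs
      · intro y hy
        exact h2 y fun s hs => hy s (List.mem_cons_of_mem _ hs)
      · intro y hy
        exact h3 y fun s hs => hy s (List.mem_cons_of_mem _ hs)
      · intro f hf
        exact h4 f fun s hs => hf s (List.mem_cons_of_mem _ hs)
      · intro τ hτ
        exact h5 τ fun s hs => hτ s (List.mem_cons_of_mem _ hs)

namespace RE

variable (h : RE B Φ x ht)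
include h

theorem mem_cone {F : List L} (hF : Ort B Φ F) {r : L} (hr : r ∈ F) : r ∈ Cone B Φ F := by
  refine ⟨hF.mem r hr, fun s hs => ?_⟩
  by_cases hrs : r = s
  · subst hrs; rw [h.self (hF.mem r hr)]; norm_num
  · rw [hF.eq_zero h.rt hr hs hrs]

/-- **The cone of a set of orthogonal roots is connected.** -/
theorem conn {F : List L} (hF : Ort B Φ F) (hne : F ≠ []) {P : L → Prop}
    (hP : ∀ a ∈ Cone B Φ F, P a → ∀ c ∈ Cone B Φ F, B a c = 1 → P c) {a : L} (ha : a ∈ Cone B Φ F) (hPa : P a)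
    {c : L} (hc : c ∈ Cone B Φ F) : P c := by
  have rt := h.rt
  -- step `-1`
  have s1 : ∀ a ∈ Cone B Φ F, P a → ∀ c ∈ Cone B Φ F, B a c = -1 → P c := by
    intro a ha hPa c hc hac
    have hs : a + c ∈ Cone B Φ F := by
      refine ⟨rt.add a ha.1 c hc.1 hac, fun r hr => ?_⟩
      have := ha.2 r hr
      have := hc.2 r hr
      rw [rt.add_left]; omega
    have h1 : B a (a + c) = 1 := by rw [rt.add_right, h.self ha.1, hac]; norm_num
    have h2 : B (a + c) c = 1 := by rw [rt.add_left, h.self hc.1, hac]; norm_num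
    exact hP _ hs (hP a ha hPa _ hs h1) c hc h2
  rcases h.cases ha.1 hc.1 with h1 | h1 | h1 | h1 | h1
  · -- `c = -a`
    have hca : a = -c := rt.eq_neg ha.1 hc.1 h1
    obtain ⟨r, hr⟩ := List.exists_mem_of_ne_nil F hne
    have har : ∀ r ∈ F, B a r = 0 := by
      intro r hr
      have h2 := ha.2 r hr
      have h3 := hc.2 r hr
      rw [hca, rt.neg_left] at h2 ⊢
      omega
    obtain ⟨m, hm, hma, hmr⟩ := h.orth a ha.1 r (hF.mem r hr) (har r hr)
    obtain ⟨m', hm', g1, g2, g3, -, -⟩ := exists_plus rt hF hm (by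
      intro s hs hms
      have : m = -s := rt.eq_neg hm (hF.mem s hs) hms
      rw [this, rt.neg_left, rt.symm, har s hs] at hma
      omega)
    have e1 : B m' a = 1 := by
      rw [g3 a fun s hs _ => by rw [rt.symm]; exact har s hs, hma]
    have hm'c : m' ∈ Cone B Φ F := ⟨hm', g1⟩
    apply s1 m' hm'c (hP a ha hPa m' hm'c (by rw [rt.symm]; exact e1)) c hc
    have e2 : c = -a := by rw [hca, neg_neg]
    rw [e2, rt.neg_right, e1]
  · exact s1 a ha hPa c hc h1
  · -- orthogonal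
    obtain ⟨m, hm, hma, hmc⟩ := h.orth a ha.1 (-c) (rt.neg_mem c hc.1) (by rw [rt.neg_right, h1, neg_zero])
    rw [rt.neg_right] at hmc
    have hmc' : B m c = 1 := by omega
    obtain ⟨m', hm', g1, g2, g3, -, -⟩ := exists_plus rt hF hm (by
      intro s hs hms
      have : m = -s := rt.eq_neg hm (hF.mem s hs) hms
      have h2 := ha.2 s hs
      rw [this, rt.neg_left, rt.symm] at hma
      omega)
    have hm'c : m' ∈ Cone B Φ F := ⟨hm', g1⟩
    have e1 := g2 a fun r hr => by rw [rt.symm]; exact ha.2 r hr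
    have e2 := g2 c fun r hr => by rw [rt.symm]; exact hc.2 r hr
    have e3 := rt.le m' hm' a ha.1
    have e4 := rt.le m' hm' c hc.1
    have e5 : B m' a ≠ 2 := by
      intro h0
      have := rt.eq m' hm' a ha.1 h0
      rw [this] at e2
      omega
    have e6 : B m' c ≠ 2 := by
      intro h0
      have := rt.eq m' hm' c hc.1 h0
      rw [this, rt.symm c a] at e1
      omega
    exact hP m' hm'c (hP a ha hPa m' hm'c (by rw [rt.symm]; omega)) c hc (by omega)
  · exact hP a ha hPa c hc h1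
  · rw [← rt.eq a ha.1 c hc.1 h1]; exact hPa

/-- **The double cone.** -/
theorem cone_cone {F : List L} (hF : Ort B Φ F) {b : L} (hb : b ∈ Φ)
    (hbc : ∀ s ∈ Cone B Φ F, 0 ≤ B b s) :
    b ∈ F ∨ ∃ r1 r2 r3 r4 : L, ∃ F' : List L, F.Perm (r1 :: r2 :: r3 :: r4 :: F') ∧ b + b = r1 + r2 + r3 + r4 ∧
      B b r1 = 1 ∧ B b r2 = 1 ∧ B b r3 = 1 ∧ B b r4 = 1 := by
  have rt := h.rt
  by_cases hbF : b ∈ F
  · left; exact hbF
  right
  have h0 : ∀ r ∈ F, B b r = 0 ∨ B b r = 1 := by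
    intro r hr
    have h1 := hbc r (h.mem_cone hF hr)
    have h2 := rt.le b hb r (hF.mem r hr)
    have h3 : B b r ≠ 2 := fun h4 => hbF (by rw [rt.eq b hb r (hF.mem r hr) h4]; exact hr)
    omega
  have hp := (List.filter_append_perm (fun r => decide (B b r = 1)) F).symm
  set I := F.filter (fun r => decide (B b r = 1)) with hI
  set J := F.filter (fun r => !decide (B b r = 1)) with hJ
  have hJ0 : ∀ r ∈ J, B b r = 0 := by
    intro r hr
    rw [hJ, List.mem_filter] at hr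
    rcases h0 r hr.1 with h1 | h1
    · exact h1
    · simp [h1] at hr
  have hI1 : ∀ r ∈ I, B b r = 1 := by
    intro r hr
    rw [hI, List.mem_filter] at hr
    simpa using hr.2
  have hO : Ort B Φ (I ++ J) := hF.perm rt hp
  have hmemF : ∀ r, r ∈ F ↔ r ∈ I ∨ r ∈ J := fun r => by rw [hp.mem_iff, List.mem_append]
  clear_value I J
  have hbb := h.self hb
  rcases I with _ | ⟨r1, _ | ⟨r2, _ | ⟨r3, _ | ⟨r4, I⟩⟩⟩⟩
  · -- `b ⊥ F`
    exfalso
    have h1 := hbc (-b) ⟨rt.neg_mem b hb, fun r hr => by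
      rw [rt.neg_left]
      rcases (hmemF r).mp hr with h2 | h2
      · simp at h2
      · rw [hJ0 r h2]; norm_num⟩
    rw [rt.neg_right] at h1
    omega
  · -- one
    exfalso
    have hr1 : r1 ∈ Φ := hO.mem r1 (by simp)
    have b1 := hI1 r1 (by simp)
    have o1 : ∀ r ∈ J, B r1 r = 0 := fun r hr => hO.eq_zero rt (by simp) (by simp [hr]) (by
      rintro rfl
      have := hJ0 _ hr
      omega)
    have hs : r1 - b ∈ Φ := rt.sub_mem hr1 hb (by rw [rt.symm]; exact b1)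
    have h1 := hbc (r1 - b) ⟨hs, fun r hr => by
      rw [rt.sub_left]
      rcases (hmemF r).mp hr with h2 | h2
      · rw [List.mem_singleton] at h2
        rw [h2, h.self hr1, b1]; norm_num
      · rw [o1 r h2, hJ0 r h2]; norm_num⟩
    rw [rt.sub_right, b1] at h1
    omega
  · -- two
    exfalso
    have hr1 : r1 ∈ Φ := hO.mem r1 (by simp)
    have hr2 : r2 ∈ Φ := hO.mem r2 (by simp)
    have b1 := hI1 r1 (by simp)
    have b2 := hI1 r2 (by simp)
    have o12 : B r1 r2 = 0 := by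
      have h2 := hO.orth r2 (by simp)
      exact h2
    obtain ⟨g, hg, g1, g2, g3⟩ := h.quad r1 hr1 r2 hr2 b hb o12 b1 b2
    have hs : g - b ∈ Φ := rt.sub_mem hg hb g3
    have hval : ∀ r ∈ F, B (g - b) r = B g r ∧ B b r = 0 ∨ B (g - b) r = 0 := by
      intro r hr
      rcases (hmemF r).mp hr with h2 | h2
      · right
        rw [rt.sub_left]
        rcases List.mem_cons.mp h2 with h3 | h3
        · rw [h3]; omega
        · rw [List.mem_singleton] at h3
          rw [h3]; omega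
      · left
        rw [rt.sub_left, hJ0 r h2]
        exact ⟨by ring, rfl⟩
    obtain ⟨s, hs', k1, k2, k3, -, -⟩ := exists_plus rt hF hs (by
      intro r hr h2
      rcases hval r hr with ⟨h3, h4⟩ | h3
      · rw [h3] at h2
        have h5 : g = -r := rt.eq_neg hg (hF.mem r hr) h2
        rw [h5, rt.neg_left, rt.symm, h4] at g3
        omega
      · omega)
    have h1 := hbc s ⟨hs', k1⟩
    have e1 : B s b = B (g - b) b := k3 b (by
      intro r hr h2
      rcases hval r hr with ⟨h3, h4⟩ | h3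
      · rw [rt.symm]; exact h4
      · omega)
    rw [rt.symm, e1, rt.sub_left] at h1
    omega
  · -- three
    exfalso
    have hr1 : r1 ∈ Φ := hO.mem r1 (by simp)
    have hr2 : r2 ∈ Φ := hO.mem r2 (by simp)
    have hr3 : r3 ∈ Φ := hO.mem r3 (by simp)
    have b1 := hI1 r1 (by simp)
    have b2 := hI1 r2 (by simp)
    have b3 := hI1 r3 (by simp)
    have o12 : B r1 r2 = 0 := hO.orth r2 (by simp)
    have o13 : B r1 r3 = 0 := hO.orth r3 (by simp)
    have o23 : B r2 r3 = 0 := hO.tail.orth r3 (by simp)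
    have o21 : B r2 r1 = 0 := by rw [rt.symm]; exact o12
    have o31 : B r3 r1 = 0 := by rw [rt.symm]; exact o13
    have o32 : B r3 r2 = 0 := by rw [rt.symm]; exact o23
    have hoJ : ∀ r ∈ J, B r1 r = 0 ∧ B r2 r = 0 ∧ B r3 r = 0 := by
      intro r hr
      refine ⟨hO.orth r (by simp [hr]), hO.tail.orth r (by simp [hr]), hO.tail.tail.orth r (by simp [hr])⟩
    have q1 : b - r1 ∈ Φ := rt.sub_mem hb hr1 b1
    have q2 : b - r1 - r2 ∈ Φ := rt.sub_mem q1 hr2 (by rw [rt.sub_left, b2, o12]; norm_num)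
    have q3 : b - r1 - r2 - r3 ∈ Φ := rt.sub_mem q2 hr3 (by rw [rt.sub_left, rt.sub_left, b3, o13, o23]; norm_num)
    have q4 : B (b - r1 - r2 - r3) b = -1 := by
      rw [rt.sub_left, rt.sub_left, rt.sub_left, hbb, rt.symm r1, rt.symm r2, rt.symm r3, b1, b2, b3]; norm_num
    have q5 := rt.neg_mem _ (rt.add _ q3 b hb q4)
    have h1 := hbc _ ⟨q5, fun r hr => by
      rw [rt.neg_left, rt.add_left, rt.sub_left, rt.sub_left, rt.sub_left]
      rcases (hmemF r).mp hr with h2 | h2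
      · simp only [List.mem_cons, List.not_mem_nil, or_false] at h2
        rcases h2 with rfl | rfl | rfl
        · rw [b1, h.self hr1, o21, o31]; norm_num
        · rw [b2, h.self hr2, o12, o32]; norm_num
        · rw [b3, h.self hr3, o13, o23]; norm_num
      · obtain ⟨j1, j2, j3⟩ := hoJ r h2
        rw [hJ0 r h2, j1, j2, j3]; norm_num⟩
    rw [rt.neg_right, rt.add_right, rt.sub_right, rt.sub_right, rt.sub_right] at h1
    omega
  · -- four
    have hr1 : r1 ∈ Φ := hO.mem r1 (by simp)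
    have hr2 : r2 ∈ Φ := hO.mem r2 (by simp)
    have hr3 : r3 ∈ Φ := hO.mem r3 (by simp)
    have hr4 : r4 ∈ Φ := hO.mem r4 (by simp)
    have b1 := hI1 r1 (by simp)
    have b2 := hI1 r2 (by simp)
    have b3 := hI1 r3 (by simp)
    have b4 := hI1 r4 (by simp)
    have o12 : B r1 r2 = 0 := hO.orth r2 (by simp)
    have o13 : B r1 r3 = 0 := hO.orth r3 (by simp)
    have o14 : B r1 r4 = 0 := hO.orth r4 (by simp)
    have o23 : B r2 r3 = 0 := hO.tail.orth r3 (by simp)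
    have o24 : B r2 r4 = 0 := hO.tail.orth r4 (by simp)
    have o34 : B r3 r4 = 0 := hO.tail.tail.orth r4 (by simp)
    have q1 : b - r1 ∈ Φ := rt.sub_mem hb hr1 b1
    have q2 : b - r1 - r2 ∈ Φ := rt.sub_mem q1 hr2 (by rw [rt.sub_left, b2, o12]; norm_num)
    have q3 : b - r1 - r2 - r3 ∈ Φ := rt.sub_mem q2 hr3 (by rw [rt.sub_left, rt.sub_left, b3, o13, o23]; norm_num)
    have q4 : b - r1 - r2 - r3 - r4 ∈ Φ := rt.sub_mem q3 hr4 (by
      rw [rt.sub_left, rt.sub_left, rt.sub_left, b4, o14, o24, o34]; norm_num)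
    have q5 : B (b - r1 - r2 - r3 - r4) b = -2 := by
      rw [rt.sub_left, rt.sub_left, rt.sub_left, rt.sub_left, hbb, rt.symm r1, rt.symm r2, rt.symm r3, rt.symm r4,
        b1, b2, b3, b4]; norm_num
    have q6 := rt.eq_neg q4 hb q5
    refine ⟨r1, r2, r3, r4, I ++ J, hp, ?_, b1, b2, b3, b4⟩
    have q7 : b - r1 - r2 - r3 - r4 + b = 0 := by rw [q6]; abel
    calc b + b = (b - r1 - r2 - r3 - r4 + b) + (r1 + r2 + r3 + r4) := by abel
      _ = r1 + r2 + r3 + r4 := by rw [q7, zero_add]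

end RE

end Cfsg.Agent.OddHalf.D4.En2

end

-- merged: Cfsg.Agent.OddHalf.D4.En2.Quad
section

/-!
# ODD, D4, `E_n(2)`: a product of four root elements for a `D_4`-frame is conjugate to a product of three
-/

set_option autoImplicit false
set_option linter.unusedSectionVars false
set_option linter.unusedSimpArgs false
set_option linter.unusedVariables false

namespace Cfsg.Agent.OddHalf.D4.En2

open Subgroup Cfsg.Agent.OddHalf.SL.Defs

/-- the word computation (`a i = x (r i)`, `b i = x (b - r i)`, `z = x b`) -/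
theorem word {Y : Type*} [Group Y] {z a1 a2 a3 a4 b1 b2 b3 b4 c1 c2 c3 c4 : Y}
    (s_z : z * z = 1)
    (s_a1 : a1 * a1 = 1)
    (s_a2 : a2 * a2 = 1)
    (s_a3 : a3 * a3 = 1)
    (s_a4 : a4 * a4 = 1)
    (s_b1 : b1 * b1 = 1)
    (s_b2 : b2 * b2 = 1)
    (s_b3 : b3 * b3 = 1)
    (s_b4 : b4 * b4 = 1)
    (k_za1 : a1 * z = z * a1)
    (k_za2 : a2 * z = z * a2)
    (k_za3 : a3 * z = z * a3)
    (k_za4 : a4 * z = z * a4)
    (k_zb1 : b1 * z = z * b1)
    (k_zb2 : b2 * z = z * b2)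
    (k_zb3 : b3 * z = z * b3)
    (k_zb4 : b4 * z = z * b4)
    (k_a1a2 : a2 * a1 = a1 * a2)
    (k_a1a3 : a3 * a1 = a1 * a3)
    (k_a1a4 : a4 * a1 = a1 * a4)
    (k_a1b1 : b1 * a1 = z * (a1 * b1))
    (k_a1b2 : b2 * a1 = a1 * b2)
    (k_a1b3 : b3 * a1 = a1 * b3)
    (k_a1b4 : b4 * a1 = a1 * b4)
    (k_a2a3 : a3 * a2 = a2 * a3)
    (k_a2a4 : a4 * a2 = a2 * a4)
    (k_a2b1 : b1 * a2 = a2 * b1)
    (k_a2b2 : b2 * a2 = z * (a2 * b2))
    (k_a2b3 : b3 * a2 = a2 * b3)
    (k_a2b4 : b4 * a2 = a2 * b4)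
    (k_a3a4 : a4 * a3 = a3 * a4)
    (k_a3b1 : b1 * a3 = a3 * b1)
    (k_a3b2 : b2 * a3 = a3 * b2)
    (k_a3b3 : b3 * a3 = z * (a3 * b3))
    (k_a3b4 : b4 * a3 = a3 * b4)
    (k_a4b1 : b1 * a4 = a4 * b1)
    (k_a4b2 : b2 * a4 = a4 * b2)
    (k_a4b3 : b3 * a4 = a4 * b3)
    (k_a4b4 : b4 * a4 = z * (a4 * b4))
    (k_b1b2 : b2 * b1 = b1 * b2)
    (k_b1b3 : b3 * b1 = b1 * b3)
    (k_b1b4 : b4 * b1 = b1 * b4)
    (k_b2b3 : b3 * b2 = b2 * b3)
    (k_b2b4 : b4 * b2 = b2 * b4)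
    (k_b3b4 : b4 * b3 = b3 * b4)
    (c1_a1 : c1 * a1 * c1⁻¹ = a1)
    (c1_a2 : c1 * a2 * c1⁻¹ = a2)
    (c1_a3 : c1 * a3 * c1⁻¹ = a3 * b4)
    (c1_a4 : c1 * a4 * c1⁻¹ = a4 * b3)
    (c2_z : c2 * z * c2⁻¹ = z)
    (c2_a1 : c2 * a1 * c2⁻¹ = a1 * b3)
    (c2_a2 : c2 * a2 * c2⁻¹ = a2)
    (c2_a3 : c2 * a3 * c2⁻¹ = a3 * b1)
    (c2_b4 : c2 * b4 * c2⁻¹ = b4 * a2)
    (c2_a4 : c2 * a4 * c2⁻¹ = a4)
    (c2_b3 : c2 * b3 * c2⁻¹ = b3)
    (c3_a1 : c3 * a1 * c3⁻¹ = a1)
    (c3_a3 : c3 * a3 * c3⁻¹ = a3 * b2)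
    (c3_b1 : c3 * b1 * c3⁻¹ = b1 * a4)
    (c3_b4 : c3 * b4 * c3⁻¹ = b4 * a1)
    (c3_a4 : c3 * a4 * c3⁻¹ = a4)
    (c4_z : c4 * z * c4⁻¹ = z)
    (c4_a3 : c4 * a3 * c4⁻¹ = a3)
    (c4_b2 : c4 * b2 * c4⁻¹ = b2)
    (c4_b1 : c4 * b1 * c4⁻¹ = b1)
    (c4_b4 : c4 * b4 * c4⁻¹ = b4 * a3)
    : (a4 * (c4 * (c3 * (c2 * c1)))) * (a1 * (a2 * (a3 * a4))) * (a4 * (c4 * (c3 * (c2 * c1))))⁻¹ = b1 * (b2 * b4) := by
  have s_z' : ∀ t, z * (z * t) = t := fun t => by rw [← mul_assoc, s_z, one_mul]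
  have s_a1' : ∀ t, a1 * (a1 * t) = t := fun t => by rw [← mul_assoc, s_a1, one_mul]
  have s_a2' : ∀ t, a2 * (a2 * t) = t := fun t => by rw [← mul_assoc, s_a2, one_mul]
  have s_a3' : ∀ t, a3 * (a3 * t) = t := fun t => by rw [← mul_assoc, s_a3, one_mul]
  have s_a4' : ∀ t, a4 * (a4 * t) = t := fun t => by rw [← mul_assoc, s_a4, one_mul]
  have s_b1' : ∀ t, b1 * (b1 * t) = t := fun t => by rw [← mul_assoc, s_b1, one_mul]
  have s_b2' : ∀ t, b2 * (b2 * t) = t := fun t => by rw [← mul_assoc, s_b2, one_mul]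
  have s_b3' : ∀ t, b3 * (b3 * t) = t := fun t => by rw [← mul_assoc, s_b3, one_mul]
  have s_b4' : ∀ t, b4 * (b4 * t) = t := fun t => by rw [← mul_assoc, s_b4, one_mul]
  have k_za1' : ∀ t, a1 * (z * t) = z * (a1 * t) := fun t => by rw [← mul_assoc, k_za1, mul_assoc]
  have k_za2' : ∀ t, a2 * (z * t) = z * (a2 * t) := fun t => by rw [← mul_assoc, k_za2, mul_assoc]
  have k_za3' : ∀ t, a3 * (z * t) = z * (a3 * t) := fun t => by rw [← mul_assoc, k_za3, mul_assoc]
  have k_za4' : ∀ t, a4 * (z * t) = z * (a4 * t) := fun t => by rw [← mul_assoc, k_za4, mul_assoc]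
  have k_zb1' : ∀ t, b1 * (z * t) = z * (b1 * t) := fun t => by rw [← mul_assoc, k_zb1, mul_assoc]
  have k_zb2' : ∀ t, b2 * (z * t) = z * (b2 * t) := fun t => by rw [← mul_assoc, k_zb2, mul_assoc]
  have k_zb3' : ∀ t, b3 * (z * t) = z * (b3 * t) := fun t => by rw [← mul_assoc, k_zb3, mul_assoc]
  have k_zb4' : ∀ t, b4 * (z * t) = z * (b4 * t) := fun t => by rw [← mul_assoc, k_zb4, mul_assoc]
  have k_a1a2' : ∀ t, a2 * (a1 * t) = a1 * (a2 * t) := fun t => by rw [← mul_assoc, k_a1a2, mul_assoc]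
  have k_a1a3' : ∀ t, a3 * (a1 * t) = a1 * (a3 * t) := fun t => by rw [← mul_assoc, k_a1a3, mul_assoc]
  have k_a1a4' : ∀ t, a4 * (a1 * t) = a1 * (a4 * t) := fun t => by rw [← mul_assoc, k_a1a4, mul_assoc]
  have k_a1b1' : ∀ t, b1 * (a1 * t) = z * (a1 * (b1 * t)) := fun t => by rw [← mul_assoc, k_a1b1]; simp only [mul_assoc]
  have k_a1b2' : ∀ t, b2 * (a1 * t) = a1 * (b2 * t) := fun t => by rw [← mul_assoc, k_a1b2, mul_assoc]
  have k_a1b3' : ∀ t, b3 * (a1 * t) = a1 * (b3 * t) := fun t => by rw [← mul_assoc, k_a1b3, mul_assoc]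
  have k_a1b4' : ∀ t, b4 * (a1 * t) = a1 * (b4 * t) := fun t => by rw [← mul_assoc, k_a1b4, mul_assoc]
  have k_a2a3' : ∀ t, a3 * (a2 * t) = a2 * (a3 * t) := fun t => by rw [← mul_assoc, k_a2a3, mul_assoc]
  have k_a2a4' : ∀ t, a4 * (a2 * t) = a2 * (a4 * t) := fun t => by rw [← mul_assoc, k_a2a4, mul_assoc]
  have k_a2b1' : ∀ t, b1 * (a2 * t) = a2 * (b1 * t) := fun t => by rw [← mul_assoc, k_a2b1, mul_assoc]
  have k_a2b2' : ∀ t, b2 * (a2 * t) = z * (a2 * (b2 * t)) := fun t => by rw [← mul_assoc, k_a2b2]; simp only [mul_assoc]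
  have k_a2b3' : ∀ t, b3 * (a2 * t) = a2 * (b3 * t) := fun t => by rw [← mul_assoc, k_a2b3, mul_assoc]
  have k_a2b4' : ∀ t, b4 * (a2 * t) = a2 * (b4 * t) := fun t => by rw [← mul_assoc, k_a2b4, mul_assoc]
  have k_a3a4' : ∀ t, a4 * (a3 * t) = a3 * (a4 * t) := fun t => by rw [← mul_assoc, k_a3a4, mul_assoc]
  have k_a3b1' : ∀ t, b1 * (a3 * t) = a3 * (b1 * t) := fun t => by rw [← mul_assoc, k_a3b1, mul_assoc]
  have k_a3b2' : ∀ t, b2 * (a3 * t) = a3 * (b2 * t) := fun t => by rw [← mul_assoc, k_a3b2, mul_assoc]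
  have k_a3b3' : ∀ t, b3 * (a3 * t) = z * (a3 * (b3 * t)) := fun t => by rw [← mul_assoc, k_a3b3]; simp only [mul_assoc]
  have k_a3b4' : ∀ t, b4 * (a3 * t) = a3 * (b4 * t) := fun t => by rw [← mul_assoc, k_a3b4, mul_assoc]
  have k_a4b1' : ∀ t, b1 * (a4 * t) = a4 * (b1 * t) := fun t => by rw [← mul_assoc, k_a4b1, mul_assoc]
  have k_a4b2' : ∀ t, b2 * (a4 * t) = a4 * (b2 * t) := fun t => by rw [← mul_assoc, k_a4b2, mul_assoc]
  have k_a4b3' : ∀ t, b3 * (a4 * t) = a4 * (b3 * t) := fun t => by rw [← mul_assoc, k_a4b3, mul_assoc]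
  have k_a4b4' : ∀ t, b4 * (a4 * t) = z * (a4 * (b4 * t)) := fun t => by rw [← mul_assoc, k_a4b4]; simp only [mul_assoc]
  have k_b1b2' : ∀ t, b2 * (b1 * t) = b1 * (b2 * t) := fun t => by rw [← mul_assoc, k_b1b2, mul_assoc]
  have k_b1b3' : ∀ t, b3 * (b1 * t) = b1 * (b3 * t) := fun t => by rw [← mul_assoc, k_b1b3, mul_assoc]
  have k_b1b4' : ∀ t, b4 * (b1 * t) = b1 * (b4 * t) := fun t => by rw [← mul_assoc, k_b1b4, mul_assoc]
  have k_b2b3' : ∀ t, b3 * (b2 * t) = b2 * (b3 * t) := fun t => by rw [← mul_assoc, k_b2b3, mul_assoc]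
  have k_b2b4' : ∀ t, b4 * (b2 * t) = b2 * (b4 * t) := fun t => by rw [← mul_assoc, k_b2b4, mul_assoc]
  have k_b3b4' : ∀ t, b4 * (b3 * t) = b3 * (b4 * t) := fun t => by rw [← mul_assoc, k_b3b4, mul_assoc]
  have c1_a1' : MulAut.conj c1 a1 = a1 := c1_a1
  have c1_a2' : MulAut.conj c1 a2 = a2 := c1_a2
  have c1_a3' : MulAut.conj c1 a3 = a3 * b4 := c1_a3
  have c1_a4' : MulAut.conj c1 a4 = a4 * b3 := c1_a4
  have c2_z' : MulAut.conj c2 z = z := c2_z
  have c2_a1' : MulAut.conj c2 a1 = a1 * b3 := c2_a1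
  have c2_a2' : MulAut.conj c2 a2 = a2 := c2_a2
  have c2_a3' : MulAut.conj c2 a3 = a3 * b1 := c2_a3
  have c2_b4' : MulAut.conj c2 b4 = b4 * a2 := c2_b4
  have c2_a4' : MulAut.conj c2 a4 = a4 := c2_a4
  have c2_b3' : MulAut.conj c2 b3 = b3 := c2_b3
  have c3_a1' : MulAut.conj c3 a1 = a1 := c3_a1
  have c3_a3' : MulAut.conj c3 a3 = a3 * b2 := c3_a3
  have c3_b1' : MulAut.conj c3 b1 = b1 * a4 := c3_b1
  have c3_b4' : MulAut.conj c3 b4 = b4 * a1 := c3_b4
  have c3_a4' : MulAut.conj c3 a4 = a4 := c3_a4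
  have c4_z' : MulAut.conj c4 z = z := c4_z
  have c4_a3' : MulAut.conj c4 a3 = a3 := c4_a3
  have c4_b2' : MulAut.conj c4 b2 = b2 := c4_b2
  have c4_b1' : MulAut.conj c4 b1 = b1 := c4_b1
  have c4_b4' : MulAut.conj c4 b4 = b4 * a3 := c4_b4
  have P1 : MulAut.conj c1 (a1 * (a2 * (a3 * a4))) = z * (a1 * (a2 * (a3 * (a4 * (b3 * b4))))) := by
    simp only [map_mul, c1_a1', c1_a2', c1_a3', c1_a4']
    simp only [mul_assoc, mul_one, s_z, s_a1, s_a2, s_a3, s_a4, s_b1, s_b2, s_b3, s_b4, s_z', s_a1', s_a2', s_a3', s_a4', s_b1', s_b2', s_b3',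
      s_b4', k_za1, k_za2, k_za3, k_za4, k_zb1, k_zb2, k_zb3, k_zb4, k_a1a2, k_a1a3, k_a1a4, k_a1b1, k_a1b2,
      k_a1b3, k_a1b4, k_a2a3, k_a2a4, k_a2b1, k_a2b2, k_a2b3, k_a2b4, k_a3a4, k_a3b1, k_a3b2, k_a3b3, k_a3b4,
      k_a4b1, k_a4b2, k_a4b3, k_a4b4, k_b1b2, k_b1b3, k_b1b4, k_b2b3, k_b2b4, k_b3b4, k_za1', k_za2', k_za3',
      k_za4', k_zb1', k_zb2', k_zb3', k_zb4', k_a1a2', k_a1a3', k_a1a4', k_a1b1', k_a1b2', k_a1b3', k_a1b4',
      k_a2a3', k_a2a4', k_a2b1', k_a2b2', k_a2b3', k_a2b4', k_a3a4', k_a3b1', k_a3b2', k_a3b3', k_a3b4',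
      k_a4b1', k_a4b2', k_a4b3', k_a4b4', k_b1b2', k_b1b3', k_b1b4', k_b2b3', k_b2b4', k_b3b4']
  have P2 : MulAut.conj c2 (z * (a1 * (a2 * (a3 * (a4 * (b3 * b4)))))) = a1 * (a3 * (a4 * (b1 * b4))) := by
    simp only [map_mul, c2_z', c2_a1', c2_a2', c2_a3', c2_b4', c2_a4', c2_b3']
    simp only [mul_assoc, mul_one, s_z, s_a1, s_a2, s_a3, s_a4, s_b1, s_b2, s_b3, s_b4, s_z', s_a1', s_a2', s_a3', s_a4', s_b1', s_b2', s_b3',
      s_b4', k_za1, k_za2, k_za3, k_za4, k_zb1, k_zb2, k_zb3, k_zb4, k_a1a2, k_a1a3, k_a1a4, k_a1b1, k_a1b2,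
      k_a1b3, k_a1b4, k_a2a3, k_a2a4, k_a2b1, k_a2b2, k_a2b3, k_a2b4, k_a3a4, k_a3b1, k_a3b2, k_a3b3, k_a3b4,
      k_a4b1, k_a4b2, k_a4b3, k_a4b4, k_b1b2, k_b1b3, k_b1b4, k_b2b3, k_b2b4, k_b3b4, k_za1', k_za2', k_za3',
      k_za4', k_zb1', k_zb2', k_zb3', k_zb4', k_a1a2', k_a1a3', k_a1a4', k_a1b1', k_a1b2', k_a1b3', k_a1b4',
      k_a2a3', k_a2a4', k_a2b1', k_a2b2', k_a2b3', k_a2b4', k_a3a4', k_a3b1', k_a3b2', k_a3b3', k_a3b4',
      k_a4b1', k_a4b2', k_a4b3', k_a4b4', k_b1b2', k_b1b3', k_b1b4', k_b2b3', k_b2b4', k_b3b4']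
  have P3 : MulAut.conj c3 (a1 * (a3 * (a4 * (b1 * b4)))) = z * (a3 * (b1 * (b2 * b4))) := by
    simp only [map_mul, c3_a1', c3_a3', c3_b1', c3_b4', c3_a4']
    simp only [mul_assoc, mul_one, s_z, s_a1, s_a2, s_a3, s_a4, s_b1, s_b2, s_b3, s_b4, s_z', s_a1', s_a2', s_a3', s_a4', s_b1', s_b2', s_b3',
      s_b4', k_za1, k_za2, k_za3, k_za4, k_zb1, k_zb2, k_zb3, k_zb4, k_a1a2, k_a1a3, k_a1a4, k_a1b1, k_a1b2,
      k_a1b3, k_a1b4, k_a2a3, k_a2a4, k_a2b1, k_a2b2, k_a2b3, k_a2b4, k_a3a4, k_a3b1, k_a3b2, k_a3b3, k_a3b4,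
      k_a4b1, k_a4b2, k_a4b3, k_a4b4, k_b1b2, k_b1b3, k_b1b4, k_b2b3, k_b2b4, k_b3b4, k_za1', k_za2', k_za3',
      k_za4', k_zb1', k_zb2', k_zb3', k_zb4', k_a1a2', k_a1a3', k_a1a4', k_a1b1', k_a1b2', k_a1b3', k_a1b4',
      k_a2a3', k_a2a4', k_a2b1', k_a2b2', k_a2b3', k_a2b4', k_a3a4', k_a3b1', k_a3b2', k_a3b3', k_a3b4',
      k_a4b1', k_a4b2', k_a4b3', k_a4b4', k_b1b2', k_b1b3', k_b1b4', k_b2b3', k_b2b4', k_b3b4']
  have P4 : MulAut.conj c4 (z * (a3 * (b1 * (b2 * b4)))) = z * (b1 * (b2 * b4)) := by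
    simp only [map_mul, c4_z', c4_a3', c4_b2', c4_b1', c4_b4']
    simp only [mul_assoc, mul_one, s_z, s_a1, s_a2, s_a3, s_a4, s_b1, s_b2, s_b3, s_b4, s_z', s_a1', s_a2', s_a3', s_a4', s_b1', s_b2', s_b3',
      s_b4', k_za1, k_za2, k_za3, k_za4, k_zb1, k_zb2, k_zb3, k_zb4, k_a1a2, k_a1a3, k_a1a4, k_a1b1, k_a1b2,
      k_a1b3, k_a1b4, k_a2a3, k_a2a4, k_a2b1, k_a2b2, k_a2b3, k_a2b4, k_a3a4, k_a3b1, k_a3b2, k_a3b3, k_a3b4,
      k_a4b1, k_a4b2, k_a4b3, k_a4b4, k_b1b2, k_b1b3, k_b1b4, k_b2b3, k_b2b4, k_b3b4, k_za1', k_za2', k_za3',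
      k_za4', k_zb1', k_zb2', k_zb3', k_zb4', k_a1a2', k_a1a3', k_a1a4', k_a1b1', k_a1b2', k_a1b3', k_a1b4',
      k_a2a3', k_a2a4', k_a2b1', k_a2b2', k_a2b3', k_a2b4', k_a3a4', k_a3b1', k_a3b2', k_a3b3', k_a3b4',
      k_a4b1', k_a4b2', k_a4b3', k_a4b4', k_b1b2', k_b1b3', k_b1b4', k_b2b3', k_b2b4', k_b3b4']
  have P5 : MulAut.conj a4 (z * (b1 * (b2 * b4))) = b1 * (b2 * b4) := by
    have e : a4⁻¹ = a4 := inv_eq_of_mul_eq_one_left s_a4
    rw [MulAut.conj_apply, e]
    simp only [mul_assoc, mul_one, s_z, s_a1, s_a2, s_a3, s_a4, s_b1, s_b2, s_b3, s_b4, s_z', s_a1', s_a2', s_a3', s_a4', s_b1', s_b2', s_b3',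
      s_b4', k_za1, k_za2, k_za3, k_za4, k_zb1, k_zb2, k_zb3, k_zb4, k_a1a2, k_a1a3, k_a1a4, k_a1b1, k_a1b2,
      k_a1b3, k_a1b4, k_a2a3, k_a2a4, k_a2b1, k_a2b2, k_a2b3, k_a2b4, k_a3a4, k_a3b1, k_a3b2, k_a3b3, k_a3b4,
      k_a4b1, k_a4b2, k_a4b3, k_a4b4, k_b1b2, k_b1b3, k_b1b4, k_b2b3, k_b2b4, k_b3b4, k_za1', k_za2', k_za3',
      k_za4', k_zb1', k_zb2', k_zb3', k_zb4', k_a1a2', k_a1a3', k_a1a4', k_a1b1', k_a1b2', k_a1b3', k_a1b4',
      k_a2a3', k_a2a4', k_a2b1', k_a2b2', k_a2b3', k_a2b4', k_a3a4', k_a3b1', k_a3b2', k_a3b3', k_a3b4',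
      k_a4b1', k_a4b2', k_a4b3', k_a4b4', k_b1b2', k_b1b3', k_b1b4', k_b2b3', k_b2b4', k_b3b4']
  have e1 : (a4 * (c4 * (c3 * (c2 * c1)))) * (a1 * (a2 * (a3 * a4))) * (a4 * (c4 * (c3 * (c2 * c1))))⁻¹ =
      MulAut.conj a4 (MulAut.conj c4 (MulAut.conj c3 (MulAut.conj c2 (MulAut.conj c1 (a1 * (a2 * (a3 * a4))))))) := by
    simp only [MulAut.conj_apply]
    group
  rw [e1, P1, P2, P3, P4, P5]

variable {L Y : Type*} [AddCommGroup L] [Group Y]
variable {B : L → L → ℤ} {Φ : Set L} {x : L → Y} {ht : L →+ ℤ}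

namespace RE

variable (h : RE B Φ x ht)
include h

theorem conj_neg' {a b c : L} (ha : a ∈ Φ) (hb : b ∈ Φ) (hab : B a b = -1) (hc : a + b = c) :
    x a * x b * (x a)⁻¹ = x b * x c := by rw [← hc]; exact h.conj_neg ha hb hab

theorem swap {r b : L} (hr : r ∈ Φ) (hb : b ∈ Φ) (hbr : B b r = 1) :
    x (b - r) * x r = x b * (x r * x (b - r)) := by
  have hq := h.rt.sub_mem hb hr hbr
  have h1 : B r (b - r) = -1 := by rw [h.rt.sub_right, h.rt.symm, hbr, h.self hr]; norm_num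
  have h2 := h.add r hr (b - r) hq h1
  have e : r + (b - r) = b := by abel
  rw [e] at h2
  have h3 : x (b - r) * x b = x b * x (b - r) :=
    h.comm _ hq b hb (by rw [h.rt.sub_left, h.self hb, h.rt.symm, hbr]; norm_num)
  have h4 := h.sq r hr
  calc x (b - r) * x r = (x (b - r) * x b) * (x b * x r) := by
        rw [mul_assoc, h.cancel hb]
    _ = (x r * x (b - r) * x r) * (x b * x r) := by rw [h2]
    _ = x r * x (b - r) * x r * (x r * x b) := by rw [h.comm b hb r hr (by omega)]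
    _ = x r * x (b - r) * x b := by
        calc x r * x (b - r) * x r * (x r * x b) = x r * x (b - r) * (x r * x r) * x b := by group
          _ = _ := by rw [h4, mul_one]
    _ = x r * (x (b - r) * x b) := by group
    _ = x r * (x b * x (b - r)) := by rw [h3]
    _ = (x r * x b) * x (b - r) := by group
    _ = _ := by rw [← h.comm b hb r hr (by omega), mul_assoc]

/-- **A `D_4`-frame: four become three.** -/
theorem frame {r1 r2 r3 r4 b : L} (hO : Ort B Φ [r1, r2, r3, r4]) (hb : b ∈ Φ) (b1 : B b r1 = 1) (b2 : B b r2 = 1)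
    (b3 : B b r3 = 1) (b4 : B b r4 = 1) (hs : b + b = r1 + r2 + r3 + r4) :
    ∃ g : Y, g * (x r1 * (x r2 * (x r3 * x r4))) * g⁻¹ = x (b - r1) * (x (b - r2) * x (b - r4)) ∧
      (∀ t ∈ Φ, B r1 t = 0 → B r2 t = 0 → B r3 t = 0 → B r4 t = 0 → g * x t = x t * g) ∧ g * x b = x b * g := by
  have rt := h.rt
  have hr1 : r1 ∈ Φ := hO.mem r1 (by simp)
  have hr2 : r2 ∈ Φ := hO.mem r2 (by simp)
  have hr3 : r3 ∈ Φ := hO.mem r3 (by simp)
  have hr4 : r4 ∈ Φ := hO.mem r4 (by simp)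
  have o12 : B r1 r2 = 0 := hO.orth r2 (by simp)
  have o13 : B r1 r3 = 0 := hO.orth r3 (by simp)
  have o14 : B r1 r4 = 0 := hO.orth r4 (by simp)
  have o23 : B r2 r3 = 0 := hO.tail.orth r3 (by simp)
  have o24 : B r2 r4 = 0 := hO.tail.orth r4 (by simp)
  have o34 : B r3 r4 = 0 := hO.tail.tail.orth r4 (by simp)
  have o21 : B r2 r1 = 0 := by rw [rt.symm]; exact o12
  have o31 : B r3 r1 = 0 := by rw [rt.symm]; exact o13
  have o41 : B r4 r1 = 0 := by rw [rt.symm]; exact o14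
  have o32 : B r3 r2 = 0 := by rw [rt.symm]; exact o23
  have o42 : B r4 r2 = 0 := by rw [rt.symm]; exact o24
  have o43 : B r4 r3 = 0 := by rw [rt.symm]; exact o34
  have b1' : B r1 b = 1 := by rw [rt.symm]; exact b1
  have b2' : B r2 b = 1 := by rw [rt.symm]; exact b2
  have b3' : B r3 b = 1 := by rw [rt.symm]; exact b3
  have b4' : B r4 b = 1 := by rw [rt.symm]; exact b4
  have s1 := h.self hr1
  have s2 := h.self hr2
  have s3 := h.self hr3
  have s4 := h.self hr4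
  have sb := h.self hb
  have q1 : b - r1 ∈ Φ := rt.sub_mem hb hr1 b1
  have q2 : b - r2 ∈ Φ := rt.sub_mem hb hr2 b2
  have q3 : b - r3 ∈ Φ := rt.sub_mem hb hr3 b3
  have q4 : b - r4 ∈ Φ := rt.sub_mem hb hr4 b4
  have t4 : b - r1 - r2 ∈ Φ := rt.sub_mem q1 hr2 (by rw [rt.sub_left]; omega)
  have t1 : r1 + r2 - b ∈ Φ := by
    have := rt.neg_mem _ t4
    have e : -(b - r1 - r2) = r1 + r2 - b := by abel
    rwa [e] at this
  have t2 : r2 + r4 - b ∈ Φ := by
    have := rt.neg_mem _ (rt.sub_mem q2 hr4 (by rw [rt.sub_left]; omega))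
    have e : -(b - r2 - r4) = r2 + r4 - b := by abel
    rwa [e] at this
  have t3 : r1 + r4 - b ∈ Φ := by
    have := rt.neg_mem _ (rt.sub_mem q1 hr4 (by rw [rt.sub_left]; omega))
    have e : -(b - r1 - r4) = r1 + r4 - b := by abel
    rwa [e] at this
  have hs' : r1 + r2 + r3 + r4 = b + b := hs.symm
  -- sums
  have m13 : r1 + r2 - b + r3 = b - r4 := by
    have : r1 + r2 - b + r3 = (r1 + r2 + r3 + r4) - b - r4 := by abel
    rw [this, hs']; abel
  have m14 : r1 + r2 - b + r4 = b - r3 := by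
    have : r1 + r2 - b + r4 = (r1 + r2 + r3 + r4) - b - r3 := by abel
    rw [this, hs']; abel
  have m21 : r2 + r4 - b + r1 = b - r3 := by
    have : r2 + r4 - b + r1 = (r1 + r2 + r3 + r4) - b - r3 := by abel
    rw [this, hs']; abel
  have m23 : r2 + r4 - b + r3 = b - r1 := by
    have : r2 + r4 - b + r3 = (r1 + r2 + r3 + r4) - b - r1 := by abel
    rw [this, hs']; abel
  have m24 : r2 + r4 - b + (b - r4) = r2 := by abel
  have m33 : r1 + r4 - b + r3 = b - r2 := by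
    have : r1 + r4 - b + r3 = (r1 + r2 + r3 + r4) - b - r2 := by abel
    rw [this, hs']; abel
  have m31 : r1 + r4 - b + (b - r1) = r4 := by abel
  have m34 : r1 + r4 - b + (b - r4) = r1 := by abel
  have m44 : b - r1 - r2 + (b - r4) = r3 := by
    have : b - r1 - r2 + (b - r4) = (b + b) - r1 - r2 - r4 := by abel
    rw [this, ← hs']; abel
  refine ⟨x r4 * (x (b - r1 - r2) * (x (r1 + r4 - b) * (x (r2 + r4 - b) * x (r1 + r2 - b)))), ?_, ?_, ?_⟩
  · apply word (z := x b) (b3 := x (b - r3))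
    · exact h.sq _ hb
    · exact h.sq _ hr1
    · exact h.sq _ hr2
    · exact h.sq _ hr3
    · exact h.sq _ hr4
    · exact h.sq _ q1
    · exact h.sq _ q2
    · exact h.sq _ q3
    · exact h.sq _ q4
    · exact h.comm _ hr1 _ hb (by (try simp only [rt.sub_left, rt.sub_right]); omega)
    · exact h.comm _ hr2 _ hb (by (try simp only [rt.sub_left, rt.sub_right]); omega)
    · exact h.comm _ hr3 _ hb (by (try simp only [rt.sub_left, rt.sub_right]); omega)
    · exact h.comm _ hr4 _ hb (by (try simp only [rt.sub_left, rt.sub_right]); omega)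
    · exact h.comm _ q1 _ hb (by (try simp only [rt.sub_left, rt.sub_right]); omega)
    · exact h.comm _ q2 _ hb (by (try simp only [rt.sub_left, rt.sub_right]); omega)
    · exact h.comm _ q3 _ hb (by (try simp only [rt.sub_left, rt.sub_right]); omega)
    · exact h.comm _ q4 _ hb (by (try simp only [rt.sub_left, rt.sub_right]); omega)
    · exact h.comm _ hr2 _ hr1 (by (try simp only [rt.sub_left, rt.sub_right]); omega)
    · exact h.comm _ hr3 _ hr1 (by (try simp only [rt.sub_left, rt.sub_right]); omega)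
    · exact h.comm _ hr4 _ hr1 (by (try simp only [rt.sub_left, rt.sub_right]); omega)
    · exact h.swap hr1 hb b1
    · exact h.comm _ q2 _ hr1 (by (try simp only [rt.sub_left, rt.sub_right]); omega)
    · exact h.comm _ q3 _ hr1 (by (try simp only [rt.sub_left, rt.sub_right]); omega)
    · exact h.comm _ q4 _ hr1 (by (try simp only [rt.sub_left, rt.sub_right]); omega)
    · exact h.comm _ hr3 _ hr2 (by (try simp only [rt.sub_left, rt.sub_right]); omega)
    · exact h.comm _ hr4 _ hr2 (by (try simp only [rt.sub_left, rt.sub_right]); omega)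
    · exact h.comm _ q1 _ hr2 (by (try simp only [rt.sub_left, rt.sub_right]); omega)
    · exact h.swap hr2 hb b2
    · exact h.comm _ q3 _ hr2 (by (try simp only [rt.sub_left, rt.sub_right]); omega)
    · exact h.comm _ q4 _ hr2 (by (try simp only [rt.sub_left, rt.sub_right]); omega)
    · exact h.comm _ hr4 _ hr3 (by (try simp only [rt.sub_left, rt.sub_right]); omega)
    · exact h.comm _ q1 _ hr3 (by (try simp only [rt.sub_left, rt.sub_right]); omega)
    · exact h.comm _ q2 _ hr3 (by (try simp only [rt.sub_left, rt.sub_right]); omega)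
    · exact h.swap hr3 hb b3
    · exact h.comm _ q4 _ hr3 (by (try simp only [rt.sub_left, rt.sub_right]); omega)
    · exact h.comm _ q1 _ hr4 (by (try simp only [rt.sub_left, rt.sub_right]); omega)
    · exact h.comm _ q2 _ hr4 (by (try simp only [rt.sub_left, rt.sub_right]); omega)
    · exact h.comm _ q3 _ hr4 (by (try simp only [rt.sub_left, rt.sub_right]); omega)
    · exact h.swap hr4 hb b4
    · exact h.comm _ q2 _ q1 (by (try simp only [rt.sub_left, rt.sub_right]); omega)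
    · exact h.comm _ q3 _ q1 (by (try simp only [rt.sub_left, rt.sub_right]); omega)
    · exact h.comm _ q4 _ q1 (by (try simp only [rt.sub_left, rt.sub_right]); omega)
    · exact h.comm _ q3 _ q2 (by (try simp only [rt.sub_left, rt.sub_right]); omega)
    · exact h.comm _ q4 _ q2 (by (try simp only [rt.sub_left, rt.sub_right]); omega)
    · exact h.comm _ q4 _ q3 (by (try simp only [rt.sub_left, rt.sub_right]); omega)
    · exact h.conj_pos t1 hr1 (by (try simp only [rt.sub_left, rt.sub_right, rt.add_left]); omega)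
    · exact h.conj_pos t1 hr2 (by (try simp only [rt.sub_left, rt.sub_right, rt.add_left]); omega)
    · exact h.conj_neg' t1 hr3 (by (try simp only [rt.sub_left, rt.sub_right, rt.add_left]); omega) m13
    · exact h.conj_neg' t1 hr4 (by (try simp only [rt.sub_left, rt.sub_right, rt.add_left]); omega) m14
    · exact h.conj_pos t2 hb (by (try simp only [rt.sub_left, rt.sub_right, rt.add_left]); omega)
    · exact h.conj_neg' t2 hr1 (by (try simp only [rt.sub_left, rt.sub_right, rt.add_left]); omega) m21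
    · exact h.conj_pos t2 hr2 (by (try simp only [rt.sub_left, rt.sub_right, rt.add_left]); omega)
    · exact h.conj_neg' t2 hr3 (by (try simp only [rt.sub_left, rt.sub_right, rt.add_left]); omega) m23
    · exact h.conj_neg' t2 q4 (by (try simp only [rt.sub_left, rt.sub_right, rt.add_left]); omega) m24
    · exact h.conj_pos t2 hr4 (by (try simp only [rt.sub_left, rt.sub_right, rt.add_left]); omega)
    · exact h.conj_pos t2 q3 (by (try simp only [rt.sub_left, rt.sub_right, rt.add_left]); omega)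
    · exact h.conj_pos t3 hr1 (by (try simp only [rt.sub_left, rt.sub_right, rt.add_left]); omega)
    · exact h.conj_neg' t3 hr3 (by (try simp only [rt.sub_left, rt.sub_right, rt.add_left]); omega) m33
    · exact h.conj_neg' t3 q1 (by (try simp only [rt.sub_left, rt.sub_right, rt.add_left]); omega) m31
    · exact h.conj_neg' t3 q4 (by (try simp only [rt.sub_left, rt.sub_right, rt.add_left]); omega) m34
    · exact h.conj_pos t3 hr4 (by (try simp only [rt.sub_left, rt.sub_right, rt.add_left]); omega)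
    · exact h.conj_pos t4 hb (by (try simp only [rt.sub_left, rt.sub_right, rt.add_left]); omega)
    · exact h.conj_pos t4 hr3 (by (try simp only [rt.sub_left, rt.sub_right, rt.add_left]); omega)
    · exact h.conj_pos t4 q2 (by (try simp only [rt.sub_left, rt.sub_right, rt.add_left]); omega)
    · exact h.conj_pos t4 q1 (by (try simp only [rt.sub_left, rt.sub_right, rt.add_left]); omega)
    · exact h.conj_neg' t4 q4 (by (try simp only [rt.sub_left, rt.sub_right, rt.add_left]); omega) m44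
  · intro t ht' e1 e2 e3 e4
    have e5 : B b t = 0 := by
      have h1 : B (b + b) t = B (r1 + r2 + r3 + r4) t := by rw [hs]
      simp only [rt.add_left] at h1
      omega
    have g1 : Commute (x (r1 + r2 - b)) (x t) := h.comm _ t1 t ht' (by simp only [rt.sub_left, rt.add_left]; omega)
    have g2 : Commute (x (r2 + r4 - b)) (x t) := h.comm _ t2 t ht' (by simp only [rt.sub_left, rt.add_left]; omega)
    have g3 : Commute (x (r1 + r4 - b)) (x t) := h.comm _ t3 t ht' (by simp only [rt.sub_left, rt.add_left]; omega)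
    have g4 : Commute (x (b - r1 - r2)) (x t) := h.comm _ t4 t ht' (by simp only [rt.sub_left]; omega)
    have g5 : Commute (x r4) (x t) := h.comm _ hr4 t ht' (by omega)
    exact g5.mul_left (g4.mul_left (g3.mul_left (g2.mul_left g1)))
  · have g1 : Commute (x (r1 + r2 - b)) (x b) := h.comm _ t1 b hb (by simp only [rt.sub_left, rt.add_left]; omega)
    have g2 : Commute (x (r2 + r4 - b)) (x b) := h.comm _ t2 b hb (by simp only [rt.sub_left, rt.add_left]; omega)
    have g3 : Commute (x (r1 + r4 - b)) (x b) := h.comm _ t3 b hb (by simp only [rt.sub_left, rt.add_left]; omega)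
    have g4 : Commute (x (b - r1 - r2)) (x b) := h.comm _ t4 b hb (by simp only [rt.sub_left]; omega)
    have g5 : Commute (x r4) (x b) := h.comm _ hr4 b hb (by omega)
    exact g5.mul_left (g4.mul_left (g3.mul_left (g2.mul_left g1)))

end RE

end Cfsg.Agent.OddHalf.D4.En2

end

-- merged: Cfsg.Agent.OddHalf.D4.En2.CaseB
section

/-!
# ODD, D4, `E_n(2)`: case (B): `N ∩ O_2(C(e)) = 1` for all root elements `e` centralised by `α`, `β`
(text: helper305 #11622 (B), (D), (E); the frames `r₁ + r₂ + r₃ + r₄ = 2 b` are excluded by minimality)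
-/

set_option autoImplicit false
set_option linter.unusedSectionVars false

namespace Cfsg.Agent.OddHalf.D4.En2

open Subgroup Cfsg.Agent.OddHalf.SL.Defs Cfsg.Agent.OddHalf.D4.Basic

variable {L Y : Type*} [AddCommGroup L] [Group Y]
variable {B : L → L → ℤ} {Φ : Set L} {x : L → Y} {ht : L →+ ℤ} {ρ : L} {Fl : (L →+ L) → Prop}

/-- a configuration with the two automorphisms exchanged -/
theorem conf_symm {α β : MulAut Y} {D N : Subgroup Y} (hc : Conf α β D N) : Conf β α D N := by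
  have hs : ∀ γ : MulAut Y, (γ = β ∨ γ = α ∨ γ = β * α) → (γ = α ∨ γ = β ∨ γ = α * β) := by
    rintro γ (h | h | h)
    · right; left; exact h
    · left; exact h
    · right; right; rw [h, hc.ab]
  exact ⟨hc.bb, hc.aa, hc.ab.symm, hc.b1, hc.a1, hc.ne.symm, hc.le, hc.norm, fun γ hγ => hc.cen γ (hs γ hγ),
    fun γ hγ => hc.comm γ (hs γ hγ), hc.cenN, fun γ hγ => hc.noCen γ (hs γ hγ), hc.noCenN⟩

/-- a configuration with `α` replaced by `α * β` -/
theorem conf_mul {α β : MulAut Y} {D N : Subgroup Y} (hc : Conf α β D N) : Conf (α * β) β D N := by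
  have aa := hc.aa
  have bb := hc.bb
  have ab := hc.ab
  have e3 : α * β * α = β := by rw [ab, mul_assoc, aa, mul_one]
  have e4 : α * β * β = α := by rw [mul_assoc, bb, mul_one]
  have hs : ∀ γ : MulAut Y, (γ = α * β ∨ γ = β ∨ γ = α * β * β) → (γ = α ∨ γ = β ∨ γ = α * β) := by
    rintro γ (h | h | h)
    · right; right; exact h
    · right; left; exact h
    · left; rw [h, e4]
  refine ⟨?_, hc.bb, ?_, ?_, hc.b1, ?_, hc.le, hc.norm, fun γ hγ => hc.cen γ (hs γ hγ),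
    fun γ hγ => hc.comm γ (hs γ hγ), hc.cenN, fun γ hγ => hc.noCen γ (hs γ hγ), hc.noCenN⟩
  · rw [← mul_assoc, e3, bb]
  · rw [e4, ab, ← mul_assoc, bb, one_mul]
  · intro h0
    apply hc.ne
    have h1 : α * (α * β) = α := by rw [h0, mul_one]
    rw [← mul_assoc, aa, one_mul] at h1
    exact h1.symm
  · intro h0
    apply hc.a1
    have h1 : α * β * β = β * β := by rw [h0]
    rw [e4, bb] at h1
    exact h1

/-- `N ∩ O_2(C(e)) = 1` for all root elements `e` centralised by `α`, `β` -/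
def NoN (x : L → Y) (ρ : L) (α β : MulAut Y) (N : Subgroup Y) : Prop :=
  ∀ g : Y, α (g * x ρ * g⁻¹) = g * x ρ * g⁻¹ → β (g * x ρ * g⁻¹) = g * x ρ * g⁻¹ → ∀ n ∈ N,
    n ∈ OO (g * x ρ * g⁻¹) → n = 1

theorem NoN.symm {α β : MulAut Y} {N : Subgroup Y} (hB : NoN x ρ α β N) : NoN x ρ β α N :=
  fun g h1 h2 => hB g h2 h1

theorem NoN.mv {α β : MulAut Y} {N : Subgroup Y} (hB : NoN x ρ α β N) (g0 : Y) :
    NoN (mv (MulAut.conj g0) x) ρ α β N := by
  intro g
  have e : g * En2.mv (MulAut.conj g0) x ρ * g⁻¹ = (g * g0) * x ρ * (g * g0)⁻¹ := by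
    rw [mv_apply, MulAut.conj_apply]; group
  rw [e]
  exact hB (g * g0)

/-- elements of `XS x F`, `F` orthogonal -/
theorem RE.exists_sublist (h : RE B Φ x ht) {F : List L} (hF : Ort B Φ F) {u : Y} (hu : u ∈ XS x {c | c ∈ F}) :
    ∃ I : List L, I.Sublist F ∧ u = pr x I := by
  induction F generalizing u with
  | nil =>
    refine ⟨[], List.Sublist.refl _, ?_⟩
    have e : {c : L | c ∈ ([] : List L)} = ∅ := by ext c; simp
    rw [e] at hu
    unfold XS at hu
    rw [Set.image_empty, Subgroup.closure_empty, mem_bot] at hu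
    rw [hu]; simp
  | cons a F ih =>
    have e : {c : L | c ∈ a :: F} ⊆ insert a {c | c ∈ F} := by
      intro c hc
      rcases List.mem_cons.mp hc with h1 | h1
      · left; exact h1
      · right; exact h1
    rcases h.mem_insert (T := {c | c ∈ F}) hF.head (fun v hv => by
      have : x a * v = v * x a := comm_XS (fun c hc => h.comm a hF.head c (hF.tail.mem c hc) (by
        rw [hF.orth c hc])) hv
      rw [this, mul_inv_cancel_right]; exact hv) (XS_mono e hu) with h1 | h1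
    · obtain ⟨I, hI, rfl⟩ := ih hF.tail h1
      exact ⟨I, hI.cons a, rfl⟩
    · obtain ⟨I, hI, h2⟩ := ih hF.tail h1
      refine ⟨a :: I, hI.cons_cons a, ?_⟩
      rw [pr_cons, ← h2, h.cancel hF.head]

section

variable [Finite Y]

theorem NoN.root (h : RE B Φ x ht) (ha : RA B Φ x ht ρ Fl) {α β : MulAut Y} {N : Subgroup Y} (hB : NoN x ρ α β N)
    {a : L} (haΦ : a ∈ Φ) (h1 : α (x a) = x a) (h2 : β (x a) = x a) {n : Y} (hn : n ∈ N) (hnQ : n ∈ Qs B Φ x a) :
    n = 1 := by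
  obtain ⟨g, hg⟩ := h.exists_conj_root ha.ρmem haΦ
  apply hB g (by rw [hg]; exact h1) (by rw [hg]; exact h2) n hn
  rw [hg, RA.OO_eq h ha haΦ]
  exact hnQ

/-- the step -/
theorem B_step (h : RE B Φ x ht) (ha : RA B Φ x ht ρ Fl) {α β : MulAut Y} {D N : Subgroup Y} (hc : Conf α β D N)
    (hB : NoN x ρ α β N) {a c : L} (haΦ : a ∈ Φ) (hcΦ : c ∈ Φ) (hac : B a c = 1) (h1 : α (x a) = x a)
    (h2 : β (x a) = x a) (h3 : α (x c) = x c) : β (x c) = x c := by
  have hcQ : x c ∈ Qs B Φ x a := mem_XS ⟨hcΦ, by rw [h.rt.symm]; omega⟩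
  have hD : x c ∈ D := hc.cen α (Or.inl rfl) _ h3
  have hN := hc.comm β (Or.inr (Or.inl rfl)) _ hD
  have hQ : β (x c) ∈ Qs B Φ x a := by
    rw [← RA.OO_eq h ha haΦ] at hcQ ⊢
    have := OO_map β (x a) hcQ
    rwa [h2] at this
  have := hB.root h ha haΦ h1 h2 hN (mul_mem hQ (inv_mem hcQ))
  exact mul_inv_eq_one.mp this

/-- `α = conj (∏ F)`: `β` centralises `x c` for all `c ∈ Cone F` -/
theorem B_cone (h : RE B Φ x ht) (ha : RA B Φ x ht ρ Fl) {α β : MulAut Y} {D N : Subgroup Y} (hc : Conf α β D N)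
    (hB : NoN x ρ α β N) {F : List L} (hF : Ort B Φ F) (hα : α = MulAut.conj (pr x F)) {a0 : L}
    (ha0 : a0 ∈ Cone B Φ F) (h0 : β (x a0) = x a0) {c : L} (hcF : c ∈ Cone B Φ F) : β (x c) = x c := by
  have hαc : ∀ c ∈ Cone B Φ F, α (x c) = x c := by
    intro c hc
    rw [hα, MulAut.conj_apply, ← h.comm_pr' hc.1 hF hc.2, mul_inv_cancel_right]
  have hne : F ≠ [] := by
    rintro rfl
    apply hc.a1
    rw [hα]; simp
  exact h.conn hF hne (P := fun a => β (x a) = x a) (fun a haF hPa c hcF hac =>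
    B_step h ha hc hB haF.1 hcF.1 hac (hαc a haF) hPa (hαc c hcF)) ha0 h0 hcF

/-- **Case (B), both inner.** -/
theorem caseB_ind {D N : Subgroup Y} : ∀ (n : ℕ) (x : L → Y) (_ : RE B Φ x ht) (_ : RA B Φ x ht ρ Fl) (α β : MulAut Y)
    (_ : Conf α β D N) (_ : NoN x ρ α β N) (F : List L) (_ : Ort B Φ F) (_ : F.length ≤ n)
    (_ : α = MulAut.conj (pr x F)) (b : Y) (_ : β = MulAut.conj b) (a0 : L) (_ : a0 ∈ Cone B Φ F)
    (_ : β (x a0) = x a0), False := by
  intro n
  induction n with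
  | zero =>
    intro x h ha α β hc hB F hF hn hα b hβ a0 ha0 h0
    have : F = [] := List.length_eq_zero_iff.mp (by omega)
    apply hc.a1
    rw [hα, this]; simp
  | succ n ih =>
    intro x h ha α β hc hB F hF hn hα b hβ a0 ha0 h0
    have rt := h.rt
    have hcone : ∀ c ∈ Cone B Φ F, β (x c) = x c := fun c hcF => B_cone h ha hc hB hF hα ha0 h0 hcF
    have hcone' : ∀ c ∈ Cone B Φ F, b * x c = x c * b := by
      intro c hcF
      have h1 := hcone c hcF
      rw [hβ, MulAut.conj_apply] at h1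
      exact mul_inv_eq_iff_eq_mul.mp h1
    by_cases hsub : ∀ d ∈ Φ, (∀ c ∈ Cone B Φ F, 0 ≤ B d c) → d ∈ F
    · -- `b` is a subproduct
      have hfin : (Cone B Φ F).Finite := rt.fin.subset fun c hc => hc.1
      let Fs : List (L →+ ℤ) := hfin.toFinset.toList.map (fB rt)
      have hb : b ∈ XS x {c | c ∈ F} := by
        apply h.inter_mem (F := Fs)
        · intro f hf
          simp only [Fs, List.mem_map, Finset.mem_toList, Set.Finite.mem_toFinset] at hf
          obtain ⟨c, hcF, rfl⟩ := hf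
          exact h.cent c hcF.1 b (hcone' c hcF)
        · intro d hd hdF
          apply hsub d hd
          intro c hcF
          have := hdF (fB rt c) (by
            simp only [Fs, List.mem_map, Finset.mem_toList, Set.Finite.mem_toFinset]
            exact ⟨c, hcF, rfl⟩)
          rwa [fB_apply] at this
      obtain ⟨I, hI, hbI⟩ := h.exists_sublist hF hb
      have hlt : I.length < F.length := by
        rcases Nat.lt_or_ge I.length F.length with h1 | h1
        · exact h1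
        · exfalso
          have := hI.eq_of_length_le h1
          apply hc.ne
          rw [hα, hβ, hbI, this]
      refine ih x h ha β α (conf_symm hc) hB.symm I (hF.sublist hI) (by omega) (by rw [hβ, hbI]) (pr x F) hα a0
        ⟨ha0.1, fun r hr => ha0.2 r (hI.subset hr)⟩ ?_
      rw [hα, MulAut.conj_apply, ← h.comm_pr' ha0.1 hF ha0.2, mul_inv_cancel_right]
    · push Not at hsub
      obtain ⟨d, hd, hdc, hdF⟩ := hsub
      rcases h.cone_cone hF hd hdc with h1 | ⟨r1, r2, r3, r4, F', hp, hs, b1, b2, b3, b4⟩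
      · exact hdF h1
      have hO := hF.perm rt hp
      have hO4 : Ort B Φ [r1, r2, r3, r4] := hO.sublist (by
        have : [r1, r2, r3, r4].Sublist ([r1, r2, r3, r4] ++ F') := List.sublist_append_left _ _
        exact this)
      obtain ⟨g, hg, hgF, hgd⟩ := h.frame hO4 hd b1 b2 b3 b4 hs
      have hr1 : r1 ∈ Φ := hO.mem r1 (by simp)
      have hr2 : r2 ∈ Φ := hO.mem r2 (by simp)
      have hr3 : r3 ∈ Φ := hO.mem r3 (by simp)
      have hr4 : r4 ∈ Φ := hO.mem r4 (by simp)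
      have o : ∀ t ∈ F', B r1 t = 0 ∧ B r2 t = 0 ∧ B r3 t = 0 ∧ B r4 t = 0 := fun t ht' =>
        ⟨hO.orth t (by simp [ht']), hO.tail.orth t (by simp [ht']), hO.tail.tail.orth t (by simp [ht']),
          hO.tail.tail.tail.orth t (by simp [ht'])⟩
      have hF' : Ort B Φ F' := hO.tail.tail.tail.tail
      have hdt : ∀ t ∈ F', B d t = 0 := by
        intro t ht'
        obtain ⟨o1, o2, o3, o4⟩ := o t ht'
        have h1 : B (d + d) t = B (r1 + r2 + r3 + r4) t := by rw [hs]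
        simp only [rt.add_left] at h1
        omega
      -- the new list
      have o12 : B r1 r2 = 0 := hO.orth r2 (by simp)
      have o14 : B r1 r4 = 0 := hO.orth r4 (by simp)
      have o24 : B r2 r4 = 0 := hO.tail.orth r4 (by simp)
      have c1 : B r1 d = 1 := by rw [rt.symm]; exact b1
      have c2 : B r2 d = 1 := by rw [rt.symm]; exact b2
      have c4 : B r4 d = 1 := by rw [rt.symm]; exact b4
      have sd := h.self hd
      have q1 : d - r1 ∈ Φ := rt.sub_mem hd hr1 b1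
      have q2 : d - r2 ∈ Φ := rt.sub_mem hd hr2 b2
      have q4 : d - r4 ∈ Φ := rt.sub_mem hd hr4 b4
      have hF1 : Ort B Φ ((d - r1) :: (d - r2) :: (d - r4) :: F') := by
        refine Ort.cons q1 (Ort.cons q2 (Ort.cons q4 hF' ?_) ?_) ?_
        · intro t ht'
          rw [rt.sub_left, hdt t ht', (o t ht').2.2.2]; norm_num
        · intro t ht'
          rcases List.mem_cons.mp ht' with rfl | ht'
          · rw [rt.sub_left, rt.sub_right, rt.sub_right]; omega
          · rw [rt.sub_left, hdt t ht', (o t ht').2.1]; norm_num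
        · intro t ht'
          rcases List.mem_cons.mp ht' with rfl | ht'
          · rw [rt.sub_left, rt.sub_right, rt.sub_right]; omega
          · rcases List.mem_cons.mp ht' with rfl | ht'
            · rw [rt.sub_left, rt.sub_right, rt.sub_right]; omega
            · rw [rt.sub_left, hdt t ht', (o t ht').1]; norm_num
      have hgF' : g * pr x F' = pr x F' * g := RE.comm_pr fun t ht' => hgF t (hF'.mem t ht') (o t ht').1
        (o t ht').2.1 (o t ht').2.2.1 (o t ht').2.2.2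
      have hpr : g * pr x F * g⁻¹ = pr x ((d - r1) :: (d - r2) :: (d - r4) :: F') := by
        rw [h.pr_perm hF hp]
        simp only [pr_cons]
        calc g * (x r1 * (x r2 * (x r3 * (x r4 * pr x F')))) * g⁻¹
            = (g * (x r1 * (x r2 * (x r3 * x r4))) * g⁻¹) * (g * pr x F') * g⁻¹ := by group
          _ = (x (d - r1) * (x (d - r2) * x (d - r4))) * (pr x F' * g) * g⁻¹ := by rw [hg, hgF']
          _ = _ := by group
      have hx' : pr (mv (MulAut.conj g⁻¹) x) ((d - r1) :: (d - r2) :: (d - r4) :: F') = pr x F := by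
        rw [pr_mv, ← hpr, MulAut.conj_apply]; group
      have hd' : d ∈ Cone B Φ F := ⟨hd, fun r hr => hdc r (h.mem_cone hF hr)⟩
      have hxd : mv (MulAut.conj g⁻¹) x d = x d := by
        rw [mv_apply, MulAut.conj_apply, inv_inv, mul_assoc, ← hgd]; group
      refine ih (mv (MulAut.conj g⁻¹) x) (h.map _) (ha.map _) α β hc (hB.mv g⁻¹) _ hF1 ?_ (by rw [hx']; exact hα) b hβ
        d ⟨hd, ?_⟩ (by rw [hxd]; exact hcone d hd')
      · have := hp.length_eq
        simp only [List.length_cons] at this ⊢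
        omega
      · intro r hr
        simp only [List.mem_cons] at hr
        rcases hr with rfl | rfl | rfl | hr
        · rw [rt.sub_right]; omega
        · rw [rt.sub_right]; omega
        · rw [rt.sub_right]; omega
        · rw [hdt r hr]

end

end Cfsg.Agent.OddHalf.D4.En2

end

-- merged: Cfsg.Agent.OddHalf.D4.En2.Fr
section

/-!
# ODD, D4, `E_n(2)`: a four-group of automorphisms normalises a Sylow 2-subgroup containing a given fixed root element
in its centre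
-/

set_option autoImplicit false
set_option linter.unusedSectionVars false

namespace Cfsg.Agent.OddHalf.D4.En2

open Subgroup Cfsg.Agent.OddHalf.SL.Defs Cfsg.Agent.OddHalf.D4.Basic

variable {L Y : Type*} [AddCommGroup L] [Group Y]
variable {B : L → L → ℤ} {Φ : Set L} {x : L → Y} {ht : L →+ ℤ} {ρ : L} {Fl : (L →+ L) → Prop}

/-- the subgroup generated by two commuting involutions -/
theorem two_pair {M : Type*} [Group M] {α β : M} (aa : α * α = 1) (bb : β * β = 1) (ab : α * β = β * α) :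
    IsPGroup 2 ↥(closure ({α, β} : Set M)) := by
  have h1 : ∀ g ∈ closure ({α, β} : Set M), g = 1 ∨ g = α ∨ g = β ∨ g = α * β := by
    intro g hg
    induction hg using closure_induction with
    | mem y hy =>
      rcases hy with rfl | hy
      · right; left; rfl
      · rw [Set.mem_singleton_iff] at hy
        rw [hy]; right; right; left; rfl
    | one => left; rfl
    | mul y z _ _ hy hz =>
      have e1 : α * (α * β) = β := by rw [← mul_assoc, aa, one_mul]
      have e2 : β * (α * β) = α := by rw [ab, ← mul_assoc, bb, one_mul]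
      have e3 : α * β * α = β := by rw [ab, mul_assoc, aa, mul_one]
      have e4 : α * β * β = α := by rw [mul_assoc, bb, mul_one]
      have e5 : α * β * (α * β) = 1 := by rw [← mul_assoc, e3, bb]
      rcases hy with rfl | rfl | rfl | rfl <;> rcases hz with rfl | rfl | rfl | rfl <;>
        simp [e1, e2, e3, e4, e5, aa, bb, ← ab]
    | inv y _ hy =>
      have e1 : α⁻¹ = α := inv_eq_of_mul_eq_one_left aa
      have e2 : β⁻¹ = β := inv_eq_of_mul_eq_one_left bb
      rcases hy with rfl | rfl | rfl | rfl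
      · left; exact inv_one
      · right; left; exact e1
      · right; right; left; exact e2
      · right; right; right; rw [mul_inv_rev, e1, e2, ab]
  rintro ⟨g, hg⟩
  refine ⟨1, ?_⟩
  apply Subtype.ext
  show g ^ 2 ^ 1 = 1
  rw [pow_one, pow_two]
  rcases h1 g hg with rfl | rfl | rfl | rfl
  · exact one_mul 1
  · exact aa
  · exact bb
  · calc α * β * (α * β) = α * (β * α) * β := by group
      _ = (α * α) * (β * β) := by rw [← ab]; group
      _ = 1 := by rw [aa, bb, one_mul]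

/-- **Frames**, general form. -/
theorem exists_frame_gen [Finite Y] (h : RE B Φ x ht) (ha : RA B Φ x ht ρ Fl) {α β : MulAut Y} (aa : α * α = 1)
    (bb : β * β = 1) (ab : α * β = β * α) (H : Subgroup (MulAut Y)) (C : Subgroup Y)
    (hHC : ∀ γ ∈ H, ∀ c ∈ C, γ c ∈ C) (hCH : ∀ c ∈ C, MulAut.conj c ∈ H) (hαH : α ∈ H) (hβH : β ∈ H) {g0 : Y}
    (hg0 : ∀ u ∈ XS x (Pos Φ ht), g0 * u * g0⁻¹ ∈ C) :
    ∃ c ∈ C, (∀ u ∈ XS (mv (MulAut.conj (c * g0)) x) (Pos Φ ht), α u ∈ XS (mv (MulAut.conj (c * g0)) x) (Pos Φ ht)) ∧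
      ∀ u ∈ XS (mv (MulAut.conj (c * g0)) x) (Pos Φ ht), β u ∈ XS (mv (MulAut.conj (c * g0)) x) (Pos Φ ht) := by
  classical
  have : Finite (MulAut Y) := Finite.of_injective (fun γ : MulAut Y => (γ : Y → Y)) (fun γ δ h0 => MulEquiv.ext (congrFun h0))
  let I : Subgroup (MulAut Y) := C.map MulAut.conj
  have hIm : ∀ γ : MulAut Y, γ ∈ I ↔ ∃ c ∈ C, MulAut.conj c = γ := fun γ => Iff.rfl
  have hIH : I ≤ H := by
    rintro _ ⟨c, hc, rfl⟩
    exact hCH c hc
  have hconj : ∀ (γ : MulAut Y) (c : Y), γ * MulAut.conj c * γ⁻¹ = MulAut.conj (γ c) := by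
    intro γ c
    ext y
    show γ (c * γ⁻¹ y * c⁻¹) = γ c * y * (γ c)⁻¹
    rw [map_mul, map_mul, map_inv]
    have : γ (γ⁻¹ y) = y := γ.apply_symm_apply y
    rw [this]
  have hHI : H ≤ normalizer (I : Set (MulAut Y)) := by
    have key : ∀ γ ∈ H, ∀ δ ∈ I, γ * δ * γ⁻¹ ∈ I := by
      intro γ hγ δ hδ
      obtain ⟨c, hc, rfl⟩ := (hIm δ).mp hδ
      rw [hconj, hIm]
      exact ⟨γ c, hHC γ hγ c hc, rfl⟩
    intro γ hγ
    rw [mem_normalizer_iff]
    intro δ
    refine ⟨key γ hγ δ, fun h1 => ?_⟩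
    have h2 := key γ⁻¹ (H.inv_mem hγ) _ h1
    have e2 : γ⁻¹ * (γ * δ * γ⁻¹) * γ⁻¹⁻¹ = δ := by group
    rwa [e2] at h2
  have hA : closure ({α, β} : Set (MulAut Y)) ≤ H := by
    rw [closure_le]
    rintro γ (rfl | hγ)
    · exact hαH
    · rw [Set.mem_singleton_iff] at hγ
      rw [hγ]; exact hβH
  obtain ⟨T, hT, hAT⟩ := exists_isSyl (two_pair aa bb ab) hA
  have hTI : IsSyl (T ⊓ I) I := hT.inf hIH (hT.le.trans hHI)
  -- the Sylow subgroup `g0 U g0⁻¹`
  have hU2 := RA.two_U h ha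
  let P : Subgroup (MulAut Y) := ((XS x (Pos Φ ht)).map (MulAut.conj g0).toMonoidHom).map MulAut.conj
  have hP2 : IsPGroup 2 ↥P := (hU2.map _).map _
  have hPI : P ≤ I := by
    rintro _ ⟨_, ⟨u, hu, rfl⟩, rfl⟩
    exact ⟨_, hg0 u hu, rfl⟩
  obtain ⟨m, hm, hmP⟩ := hTI.conj_into hP2 hPI
  obtain ⟨c, hc, rfl⟩ := (hIm m).mp hm
  -- the new element
  refine ⟨c, hc, ?_⟩
  set g := c * g0 with hg
  have hmem : ∀ u ∈ XS x (Pos Φ ht), MulAut.conj (g * u * g⁻¹) ∈ T ⊓ I := by
    intro u hu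
    have h1 := hmP (MulAut.conj (g0 * u * g0⁻¹)) ⟨_, ⟨u, hu, rfl⟩, rfl⟩
    have e1 : MulAut.conj c * MulAut.conj (g0 * u * g0⁻¹) * (MulAut.conj c)⁻¹ = MulAut.conj (g * u * g⁻¹) := by
      rw [← map_mul, ← map_inv, ← map_mul]
      congr 1
      rw [hg]; group
    rwa [e1] at h1
  -- conversely
  have hback : ∀ s : Y, MulAut.conj s ∈ T ⊓ I → g⁻¹ * s * g ∈ XS x (Pos Φ ht) := by
    obtain ⟨S, hS⟩ := ha.syl
    let R : Subgroup Y := ((T ⊓ I).comap MulAut.conj).map (MulAut.conj g⁻¹).toMonoidHom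
    have hR2 : IsPGroup 2 ↥R := by
      apply IsPGroup.map
      exact hTI.two.comap_of_injective _ fun s t hst => h.conj_inj hst
    have hSR : (S : Subgroup Y) ≤ R := by
      intro u hu
      have hu' : u ∈ XS x (Pos Φ ht) := by rw [← hS]; exact hu
      refine ⟨g * u * g⁻¹, hmem u hu', ?_⟩
      show g⁻¹ * (g * u * g⁻¹) * g⁻¹⁻¹ = u
      group
    have h3 := S.3 hR2 hSR
    intro s hs
    rw [← hS, ← h3]
    refine ⟨s, hs, ?_⟩
    show g⁻¹ * s * g⁻¹⁻¹ = g⁻¹ * s * g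
    rw [inv_inv]
  have hinv : ∀ γ ∈ T, ∀ u ∈ XS (mv (MulAut.conj g) x) (Pos Φ ht), γ u ∈ XS (mv (MulAut.conj g) x) (Pos Φ ht) := by
    intro γ hγ u hu
    rw [mem_XS_mv] at hu ⊢
    have e1 : ∀ y, (MulAut.conj g).symm y = g⁻¹ * y * g := fun y => rfl
    rw [e1] at hu ⊢
    apply hback
    have h1 := hmem _ hu
    have e2 : g * (g⁻¹ * u * g) * g⁻¹ = u := by group
    rw [e2] at h1
    rw [← hconj]
    exact ⟨T.mul_mem (T.mul_mem hγ h1.1) (T.inv_mem hγ), (mem_normalizer_iff.mp (hHI (hT.le hγ)) _).mp h1.2⟩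
  exact ⟨hinv α (hAT (subset_closure (Set.mem_insert _ _))), hinv β (hAT (subset_closure (Set.mem_insert_of_mem _ rfl)))⟩

/-- **Frames**: with a fixed root element in the centre. -/
theorem exists_frame [Finite Y] (h : RE B Φ x ht) (ha : RA B Φ x ht ρ Fl) {α β : MulAut Y} (aa : α * α = 1)
    (bb : β * β = 1) (ab : α * β = β * α) {e g0 : Y} (he : g0 * x ρ * g0⁻¹ = e) (hα : α e = e) (hβ : β e = e) :
    ∃ g : Y, g * x ρ * g⁻¹ = e ∧ (∀ u ∈ XS (mv (MulAut.conj g) x) (Pos Φ ht), α u ∈ XS (mv (MulAut.conj g) x) (Pos Φ ht)) ∧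
      ∀ u ∈ XS (mv (MulAut.conj g) x) (Pos Φ ht), β u ∈ XS (mv (MulAut.conj g) x) (Pos Φ ht) := by
  obtain ⟨c, hc, h1, h2⟩ := exists_frame_gen h ha aa bb ab (MulAction.stabilizer (MulAut Y) e)
    (centralizer ({e} : Set Y)) (by
      intro γ hγ c hc
      rw [mem_centralizer_singleton_iff] at hc ⊢
      have hγ' : γ e = e := hγ
      calc γ c * e = γ c * γ e := by rw [hγ']
        _ = γ (c * e) := (map_mul _ _ _).symm
        _ = γ (e * c) := by rw [hc]
        _ = e * γ c := by rw [map_mul, hγ']) (by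
      intro c hc
      rw [mem_centralizer_singleton_iff] at hc
      show c * e * c⁻¹ = e
      rw [hc, mul_inv_cancel_right]) hα hβ (g0 := g0) (by
      intro u hu
      rw [mem_centralizer_singleton_iff, ← he]
      have := RA.U_central h ha hu
      calc g0 * u * g0⁻¹ * (g0 * x ρ * g0⁻¹) = g0 * (u * x ρ) * g0⁻¹ := by group
        _ = g0 * (x ρ * u) * g0⁻¹ := by rw [this]
        _ = _ := by group)
  refine ⟨c * g0, ?_, h1, h2⟩
  rw [mem_centralizer_singleton_iff] at hc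
  calc c * g0 * x ρ * (c * g0)⁻¹ = c * (g0 * x ρ * g0⁻¹) * c⁻¹ := by group
    _ = c * e * c⁻¹ := by rw [he]
    _ = e := by rw [hc, mul_inv_cancel_right]

/-- **Frames**: an invariant Sylow 2-subgroup. -/
theorem exists_frame' [Finite Y] (h : RE B Φ x ht) (ha : RA B Φ x ht ρ Fl) {α β : MulAut Y} (aa : α * α = 1)
    (bb : β * β = 1) (ab : α * β = β * α) :
    ∃ g : Y, (∀ u ∈ XS (mv (MulAut.conj g) x) (Pos Φ ht), α u ∈ XS (mv (MulAut.conj g) x) (Pos Φ ht)) ∧
      ∀ u ∈ XS (mv (MulAut.conj g) x) (Pos Φ ht), β u ∈ XS (mv (MulAut.conj g) x) (Pos Φ ht) := by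
  obtain ⟨c, -, h1, h2⟩ := exists_frame_gen h ha aa bb ab ⊤ ⊤ (fun _ _ _ _ => mem_top _) (fun _ _ => mem_top _)
    (mem_top _) (mem_top _) (g0 := 1) (fun _ _ => mem_top _)
  exact ⟨c * 1, h1, h2⟩

end Cfsg.Agent.OddHalf.D4.En2

end

-- merged: Cfsg.Agent.OddHalf.D4.En2.Kill
section

/-!
# ODD, D4, `E_n(2)`: no configuration

`false_of_conf` : `RE`, `RA` and `FlOK Fl` exclude `Conf α β D N`.
-/

set_option autoImplicit false
set_option linter.unusedSectionVars false

namespace Cfsg.Agent.OddHalf.D4.En2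

open Subgroup Cfsg.Agent.OddHalf.SL.Defs Cfsg.Agent.OddHalf.D4.Basic

variable {L Y : Type*} [AddCommGroup L] [Group Y]
variable {B : L → L → ℤ} {Φ : Set L} {x : L → Y} {ht : L →+ ℤ} {ρ : L} {Fl : (L →+ L) → Prop}

/-- The conditions on the diagram automorphisms: they permute the positive roots, at most one is nontrivial and it moves
more than 8 of the roots `t` with `⟨t, ρ⟩ = 1`. -/
structure FlOK (B : L → L → ℤ) (Φ : Set L) (ht : L →+ ℤ) (ρ : L) (Fl : (L →+ L) → Prop) : Prop where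
  pos : ∀ τ, Fl τ → ∀ c ∈ Pos Φ ht, τ c ∈ Pos Φ ht
  inj : ∀ τ, Fl τ → Function.Injective τ
  alt : ∀ τ, Fl τ → (∀ c ∈ Φ, τ c = c) ∨ 8 < {t | t ∈ Φ ∧ B t ρ = 1 ∧ τ t ≠ t}.ncard
  comp : ∀ τ τ', Fl τ → Fl τ' → (¬ ∀ c ∈ Φ, τ c = c) → (¬ ∀ c ∈ Φ, τ' c = c) → ∀ c ∈ Φ, τ (τ' c) = c

/-- the positive unipotent group of the root elements conjugated by one of its elements -/
theorem XS_conj_self (_ : RE B Φ x ht) {g : Y} (hg : g ∈ XS x (Pos Φ ht)) {u : Y} :
    u ∈ XS (mv (MulAut.conj g) x) (Pos Φ ht) ↔ u ∈ XS x (Pos Φ ht) := by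
  rw [mem_XS_mv]
  have e1 : (MulAut.conj g).symm u = g⁻¹ * u * g := rfl
  rw [e1]
  constructor
  · intro h1
    have := mul_mem (mul_mem hg h1) (inv_mem hg)
    have e : g * (g⁻¹ * u * g) * g⁻¹ = u := by group
    rwa [e] at this
  · intro h1
    exact mul_mem (mul_mem (inv_mem hg) h1) hg

/-- leading terms -/
theorem lead_conj (h : RE B Φ x ht) {s : Y} (hs : s ∈ XS x (Pos Φ ht)) {d : L} (hd : d ∈ Pos Φ ht) :
    (x d)⁻¹ * (s * x d * s⁻¹) ∈ XS x {e | e ∈ Pos Φ ht ∧ ht d < ht e} := by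
  have hT : ∀ c ∈ Pos Φ ht, ∀ u ∈ XS x {e | e ∈ Pos Φ ht ∧ ht d < ht e},
      x c * u * (x c)⁻¹ ∈ XS x {e | e ∈ Pos Φ ht ∧ ht d < ht e} := by
    intro c hc u hu
    apply h.conj_XS hc.1 (fun e he => he.1.1) _ _ hu
    · rintro ⟨⟨-, h3⟩, -⟩
      have := hc.2
      rw [map_neg] at h3
      omega
    · rintro e ⟨he, he'⟩ hce
      refine ⟨h.closed_pos c hc e he hce, ?_⟩
      have := hc.2
      rw [map_add]; omega
  have hN : XS x (Pos Φ ht) ≤ normalizer (XS x {e | e ∈ Pos Φ ht ∧ ht d < ht e} : Set Y) := by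
    apply XS_le
    intro c hc
    rw [mem_normalizer_iff]
    intro u
    refine ⟨fun hu => hT c hc u hu, fun h3 => ?_⟩
    have h4 := hT c hc _ h3
    rw [h.inv hc.1] at h4
    have e : x c * (x c * u * x c) * x c = (x c * x c) * u * (x c * x c) := by group
    rw [e, h.sq c hc.1, one_mul, mul_one] at h4
    exact h4
  have hN' : ∀ g ∈ XS x (Pos Φ ht), ∀ u ∈ XS x {e | e ∈ Pos Φ ht ∧ ht d < ht e},
      g * u * g⁻¹ ∈ XS x {e | e ∈ Pos Φ ht ∧ ht d < ht e} := fun g hg u hu =>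
    (mem_normalizer_iff.mp (hN hg) u).mp hu
  have hdU : x d ∈ XS x (Pos Φ ht) := mem_XS hd
  unfold XS at hs
  induction hs using closure_induction with
  | mem z hz =>
    obtain ⟨c, hc, rfl⟩ := hz
    rcases h.cases hc.1 hd.1 with h1 | h1 | h1
    · exfalso
      have := h.rt.eq_neg hc.1 hd.1 h1
      have h2 := hc.2
      have h3 := hd.2
      rw [this, map_neg] at h2
      omega
    · rw [h.conj_neg hc.1 hd.1 h1, inv_mul_cancel_left]
      apply mem_XS
      refine ⟨h.closed_pos c hc d hd h1, ?_⟩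
      have := hc.2
      rw [map_add]; omega
    · rw [h.conj_pos hc.1 hd.1 (by omega), inv_mul_cancel]
      exact one_mem _
  | one => rw [one_mul, inv_one, mul_one, inv_mul_cancel]; exact one_mem _
  | mul y1 y2 hy1 hy2 ih1 ih2 =>
    have e1 : (x d)⁻¹ * (y1 * y2 * x d * (y1 * y2)⁻¹) =
        ((x d)⁻¹ * (y1 * x d * y1⁻¹)) * (y1 * ((x d)⁻¹ * (y2 * x d * y2⁻¹)) * y1⁻¹) := by group
    rw [e1]
    exact mul_mem ih1 (hN' y1 hy1 _ ih2)
  | inv y1 hy1 ih1 =>
    have h3 : (x d)⁻¹ * (y1⁻¹ * x d * y1⁻¹⁻¹) =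
        ((x d)⁻¹ * y1⁻¹ * x d) * (((x d)⁻¹ * (y1 * x d * y1⁻¹))⁻¹) * ((x d)⁻¹ * y1⁻¹ * x d)⁻¹ := by group
    rw [h3]
    exact hN' _ (mul_mem (mul_mem (inv_mem hdU) (inv_mem hy1)) hdU) _ (inv_mem ih1)

/-- `x d ∉ XS x S` up to higher terms -/
theorem lead_notMem (h : RE B Φ x ht) {s : Y} (hs : s ∈ XS x (Pos Φ ht)) {d : L} (hd : d ∈ Pos Φ ht) {S : Set L}
    (hS : S ⊆ Pos Φ ht) (hSc : Closed B (S ∪ {e | e ∈ Pos Φ ht ∧ ht d < ht e})) (hdS : d ∉ S)
    (h1 : s * x d * s⁻¹ ∈ XS x S) : False := by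
  have h2 := lead_conj h hs hd
  have h3 : x d ∈ XS x (S ∪ {e | e ∈ Pos Φ ht ∧ ht d < ht e}) := by
    have e : x d = (s * x d * s⁻¹) * ((x d)⁻¹ * (s * x d * s⁻¹))⁻¹ := by group
    rw [e]
    exact mul_mem (XS_mono Set.subset_union_left h1) (inv_mem (XS_mono Set.subset_union_right h2))
  refine h.notMem_of_notMem ?_ hSc hd ?_ h3
  · rintro e (he | he)
    · exact hS he
    · exact he.1
  · rintro (h4 | h4)
    · exact hdS h4
    · exact lt_irrefl _ h4.2

theorem lead_eq (h : RE B Φ x ht) {s : Y} (hs : s ∈ XS x (Pos Φ ht)) {d c : L} (hd : d ∈ Pos Φ ht)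
    (hc : c ∈ Pos Φ ht) (h1 : s * x d * s⁻¹ = x c) : d = c := by
  by_contra hdc
  refine lead_notMem h hs hd (S := {c}) ?_ ?_ hdc (by rw [h1]; exact mem_XS rfl)
  · rintro e he
    rw [Set.mem_singleton_iff] at he
    rw [he]; exact hc
  · rintro a (ha | ha) b (hb | hb) hab
    · exfalso
      rw [Set.mem_singleton_iff] at ha hb
      rw [ha, hb, h.self hc.1] at hab
      omega
    · right
      rw [Set.mem_singleton_iff] at ha
      rw [ha] at hab ⊢
      refine ⟨h.closed_pos c hc b hb.1 hab, ?_⟩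
      have := hc.2
      have := hb.2
      rw [map_add]; omega
    · right
      rw [Set.mem_singleton_iff] at hb
      rw [hb] at hab ⊢
      refine ⟨h.closed_pos a ha.1 c hc hab, ?_⟩
      have := hc.2
      have := ha.2
      rw [map_add]; omega
    · right
      refine ⟨h.closed_pos a ha.1 b hb.1 hab, ?_⟩
      have := hb.1.2
      have := ha.2
      rw [map_add]; omega

/-- an automorphism with trivial diagram part is inner -/
theorem inner_of_id (h : RE B Φ x ht) {β : MulAut Y} {s : Y} {τ : L →+ L}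
    (hβ : ∀ c ∈ Φ, β (x c) = s * x (τ c) * s⁻¹) (hτ : ∀ c ∈ Φ, τ c = c) : β = MulAut.conj s :=
  h.aut_ext fun c hc => by rw [hβ c hc, hτ c hc, MulAut.conj_apply]

section

variable [Finite Y] (h : RE B Φ x ht) (ha : RA B Φ x ht ρ Fl) (hFl : FlOK B Φ ht ρ Fl) {α β : MulAut Y}
  {D N : Subgroup Y} (hc : Conf α β D N)
include h ha

omit [Finite Y] ha in
/-- every involution of `U` is a product of orthogonal root elements for conjugate root elements -/
theorem exists_list {w : Y} (hw : w ∈ XS x (Pos Φ ht)) (hw2 : w * w = 1) :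
    ∃ g ∈ XS x (Pos Φ ht), ∃ F : List L, Ort B Φ F ∧ (∀ r ∈ F, r ∈ Pos Φ ht) ∧
      w = pr (mv (MulAut.conj g) x) F := by
  obtain ⟨g, hg, F, hF, hFp, hgF⟩ := h.exists_conj hw hw2
  refine ⟨g⁻¹, inv_mem hg, F, hF, hFp, ?_⟩
  rw [pr_mv, MulAut.conj_apply, ← hgF]; group

include hc

/-- **Case (B).** -/
theorem caseB (hFl : FlOK B Φ ht ρ Fl) (hB : NoN x ρ α β N) (hαU : ∀ u ∈ XS x (Pos Φ ht), α u ∈ XS x (Pos Φ ht))
    (hβU : ∀ u ∈ XS x (Pos Φ ht), β u ∈ XS x (Pos Φ ht)) {a : Y} (hα : α = MulAut.conj a) : False := by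
  have haU : a ∈ XS x (Pos Φ ht) := ha.norm a (by rw [hα] at hαU; exact hαU)
  have ha2 : a * a = 1 := by
    apply h.conj_inj
    rw [map_mul, ← hα, hc.aa, map_one]
  obtain ⟨g, hg, F, hF, hFp, haF⟩ := exists_list h haU ha2
  -- the new root elements
  have h' := h.map (MulAut.conj g)
  have ha' := ha.map (MulAut.conj g)
  have hB' := hB.mv g
  have hβU' : ∀ u ∈ XS (mv (MulAut.conj g) x) (Pos Φ ht), β u ∈ XS (mv (MulAut.conj g) x) (Pos Φ ht) := by
    intro u hu
    rw [XS_conj_self h hg] at hu ⊢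
    exact hβU u hu
  have hρF : ρ ∈ Cone B Φ F := ⟨ha.ρmem, fun r hr => by
    rw [h.rt.symm]; exact ha.high r (hFp r hr).1 (hFp r hr).2⟩
  have hfix := RA.aut_fix h' ha' hβU'
  have hα' : α = MulAut.conj (pr (mv (MulAut.conj g) x) F) := by rw [← haF]; exact hα
  obtain ⟨s, hs, τ, hτ, hβτ⟩ := ha'.auto β hβU'
  by_cases hid : ∀ c ∈ Φ, τ c = c
  · have hβs := inner_of_id h' hβτ hid
    exact caseB_ind F.length _ h' ha' α β hc hB' F hF le_rfl hα' s hβs ρ hρF hfix
  · -- outer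
    have hcone : ∀ c ∈ Cone B Φ F, c ∈ Pos Φ ht → τ c = c := by
      intro c hcF hcp
      have h1 := B_cone h' ha' hc hB' hF hα' hρF hfix hcF
      rw [hβτ c hcF.1] at h1
      exact lead_eq h' hs (hFl.pos τ hτ c hcp) hcp h1
    -- a moved positive root
    obtain ⟨b, hb, hbτ⟩ : ∃ b ∈ Pos Φ ht, τ b ≠ b := by
      by_contra hcon
      push Not at hcon
      apply hid
      intro c hcΦ
      by_cases h0 : 0 < ht c
      · exact hcon c ⟨hcΦ, h0⟩
      · have h1 := h.ht0 c hcΦ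
        have h2 := hcon (-c) ⟨h.rt.neg_mem c hcΦ, by rw [map_neg]; omega⟩
        rw [map_neg] at h2
        exact neg_injective h2
    have hFτ : ∀ r ∈ F, τ r = r := fun r hr => hcone r (h.mem_cone hF hr) (hFp r hr)
    obtain ⟨b', hb', g1, -, -, g4, g5⟩ := exists_plus h.rt hF hb.1 (by
      intro r hr hbr
      have e := h.rt.eq_neg hb.1 (hF.mem r hr) hbr
      have h1 := hb.2
      have h2 := (hFp r hr).2
      rw [e, map_neg] at h1
      omega)
    have h1 := g4 ht fun r hr => (hFp r hr).2.le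
    have h2 := hcone b' ⟨hb', g1⟩ ⟨hb', by have := hb.2; omega⟩
    have h3 := g5 τ hFτ
    rw [h2, sub_self] at h3
    exact hbτ (sub_eq_zero.mp h3.symm)

/-- **Case (A), `β` outer.** -/
theorem caseA_outer (hFl : FlOK B Φ ht ρ Fl) (hne : ∃ n ∈ N, n ∈ Qs B Φ x ρ ∧ n ≠ 1)
    (hβU : ∀ u ∈ XS x (Pos Φ ht), β u ∈ XS x (Pos Φ ht)) (hβo : ¬ ∃ b, β = MulAut.conj b) : False := by
  have rt := h.rt
  obtain ⟨w, hwN, hwQ, hw1, hwρ, hw2, hN, hD⟩ := exists_w0 h ha hc hne
  obtain ⟨g, hg, F, hF, hFp, hwF⟩ := exists_list h (RA.Qρ_le h ha hwQ) hw2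
  have h' := h.map (MulAut.conj g)
  have ha' := ha.map (MulAut.conj g)
  have hβU' : ∀ u ∈ XS (mv (MulAut.conj g) x) (Pos Φ ht), β u ∈ XS (mv (MulAut.conj g) x) (Pos Φ ht) := by
    intro u hu
    rw [XS_conj_self h hg] at hu ⊢
    exact hβU u hu
  have hxρ : mv (MulAut.conj g) x ρ = x ρ := by
    rw [mv_apply, MulAut.conj_apply, ← RA.U_central h ha hg, mul_inv_cancel_right]
  have hQ' : Qs B Φ (mv (MulAut.conj g) x) ρ = Qs B Φ x ρ := by
    rw [← RA.OO_eq h' ha' ha.ρmem, ← RA.OO_eq h ha ha.ρmem, hxρ]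
  set x' := mv (MulAut.conj g) x with hx'
  have hρ := ha.ρmem
  -- `F` lies in `Φ_1(ρ)`
  have hFcl : ∀ S : Set L, (∀ c ∈ S, c ∈ F) → Closed B S := by
    intro S hS a ha b hb hab
    exfalso
    by_cases e : a = b
    · rw [e, h.self (hF.mem b (hS b hb))] at hab
      omega
    · rw [hF.eq_zero rt (hS a ha) (hS b hb) e] at hab
      omega
  have hQpos : {c | c ∈ Φ ∧ 0 < B c ρ} ⊆ Pos Φ ht := fun c hc => RA.pos_of h ha hc.1 hc.2
  have hQcl : Closed B {c | c ∈ Φ ∧ 0 < B c ρ} := by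
    rintro a ⟨ha1, ha2⟩ b ⟨hb1, hb2⟩ hab
    exact ⟨rt.add a ha1 b hb1 hab, by rw [rt.add_left]; omega⟩
  have hwF' : w ∈ XS x' ({c | c ∈ F} ∩ {c | c ∈ Φ ∧ 0 < B c ρ}) := by
    apply h'.inf _ _ (fun c hc => hFp c hc) hQpos (hFcl _ fun c hc => hc) hQcl
    refine ⟨?_, ?_⟩
    · rw [hwF]; exact RE.pr_mem fun a ha => ha
    · have : w ∈ Qs B Φ x' ρ := by rw [hQ']; exact hwQ
      exact this
  have hperm : ∀ r ∈ F, ∃ F', F.Perm (r :: F') := by
    classical
    exact fun r hr => ⟨F.erase r, List.perm_cons_erase hr⟩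
  have hF0 : ∀ r ∈ F, 0 < B r ρ := by
    intro r hr
    by_contra hcon
    obtain ⟨F', hp⟩ := hperm r hr
    have hO := hF.perm rt hp
    have hrF' : r ∉ F' := by
      intro h1
      have := hO.orth r h1
      rw [h.self (hF.mem r hr)] at this
      omega
    have h1 : w ∈ XS x' {c | c ∈ F'} := by
      refine XS_mono ?_ hwF'
      rintro c ⟨hcF, hcQ⟩
      have h2 : c ∈ r :: F' := hp.mem_iff.mp hcF
      rcases List.mem_cons.mp h2 with rfl | h2
      · exact absurd hcQ.2 hcon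
      · exact h2
    have h2 : pr x' F' ∈ XS x' {c | c ∈ F'} := RE.pr_mem fun a ha => ha
    have h3 : x' r ∈ XS x' {c | c ∈ F'} := by
      have e : x' r = w * (pr x' F')⁻¹ := by
        rw [hwF, h'.pr_perm hF hp, pr_cons, mul_inv_cancel_right]
      rw [e]; exact mul_mem h1 (inv_mem h2)
    refine h'.notMem_of_notMem ?_ ?_ (hFp r hr) hrF' h3
    · intro c hc'
      exact hFp c (hp.mem_iff.mpr (List.mem_cons_of_mem _ hc'))
    · exact hFcl _ fun c hc' => hp.mem_iff.mpr (List.mem_cons_of_mem _ hc')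
  have hF1 : ∀ r ∈ F, B r ρ = 1 := by
    intro r hr
    have h1 := hF0 r hr
    have h2 := rt.le r (hF.mem r hr) ρ hρ
    have h3 : B r ρ ≠ 2 := by
      intro h4
      have hrρ : r = ρ := rt.eq r (hF.mem r hr) ρ hρ h4
      obtain ⟨F', hp⟩ := hperm r hr
      have hO := hF.perm rt hp
      have hF'0 : F' = [] := by
        rw [List.eq_nil_iff_forall_not_mem]
        intro c hc'
        have h5 := hO.orth c hc'
        have h6 := hF0 c (hp.mem_iff.mpr (List.mem_cons_of_mem _ hc'))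
        rw [rt.symm, ← hrρ] at h6
        omega
      apply hwρ
      rw [hwF, h'.pr_perm hF hp, hF'0, pr_cons, pr_nil, mul_one, hrρ, hxρ]
    omega
  have hF4 : F.length ≤ 4 := by
    by_contra hcon
    push Not at hcon
    rcases F with _ | ⟨r1, _ | ⟨r2, _ | ⟨r3, _ | ⟨r4, _ | ⟨r5, F'⟩⟩⟩⟩⟩
    all_goals first
      | (simp only [List.length_cons, List.length_nil] at hcon; omega)
      | skip
    have hr1 : r1 ∈ Φ := hF.mem r1 (by simp)
    have hr2 : r2 ∈ Φ := hF.mem r2 (by simp)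
    have hr3 : r3 ∈ Φ := hF.mem r3 (by simp)
    have hr4 : r4 ∈ Φ := hF.mem r4 (by simp)
    have o12 : B r1 r2 = 0 := hF.orth r2 (by simp)
    have o13 : B r1 r3 = 0 := hF.orth r3 (by simp)
    have o14 : B r1 r4 = 0 := hF.orth r4 (by simp)
    have o15 : B r1 r5 = 0 := hF.orth r5 (by simp)
    have o23 : B r2 r3 = 0 := hF.tail.orth r3 (by simp)
    have o24 : B r2 r4 = 0 := hF.tail.orth r4 (by simp)
    have o25 : B r2 r5 = 0 := hF.tail.orth r5 (by simp)
    have o34 : B r3 r4 = 0 := hF.tail.tail.orth r4 (by simp)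
    have o35 : B r3 r5 = 0 := hF.tail.tail.orth r5 (by simp)
    have o45 : B r4 r5 = 0 := hF.tail.tail.tail.orth r5 (by simp)
    have b1 := hF1 r1 (by simp)
    have b2 := hF1 r2 (by simp)
    have b3 := hF1 r3 (by simp)
    have b4 := hF1 r4 (by simp)
    have b5 := hF1 r5 (by simp)
    have c1 : B ρ r1 = 1 := by rw [rt.symm]; exact b1
    have c2 : B ρ r2 = 1 := by rw [rt.symm]; exact b2
    have c3 : B ρ r3 = 1 := by rw [rt.symm]; exact b3
    have c4 : B ρ r4 = 1 := by rw [rt.symm]; exact b4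
    have c5 : B ρ r5 = 1 := by rw [rt.symm]; exact b5
    have q1 : ρ - r1 ∈ Φ := rt.sub_mem hρ hr1 c1
    have q2 : ρ - r1 - r2 ∈ Φ := rt.sub_mem q1 hr2 (by rw [rt.sub_left]; omega)
    have q3 : ρ - r1 - r2 - r3 ∈ Φ := rt.sub_mem q2 hr3 (by rw [rt.sub_left, rt.sub_left]; omega)
    have q4 : ρ - r1 - r2 - r3 - r4 ∈ Φ := rt.sub_mem q3 hr4 (by
      rw [rt.sub_left, rt.sub_left, rt.sub_left]; omega)
    have q5 : B (ρ - r1 - r2 - r3 - r4) ρ = -2 := by
      rw [rt.sub_left, rt.sub_left, rt.sub_left, rt.sub_left, h.self hρ]; omega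
    have q6 := rt.eq_neg q4 hρ q5
    have q7 : B (ρ - r1 - r2 - r3 - r4) r5 = B (-ρ) r5 := by rw [q6]
    rw [rt.sub_left, rt.sub_left, rt.sub_left, rt.sub_left, rt.neg_left] at q7
    omega
  obtain ⟨s, hs, τ, hτ, hβτ⟩ := ha'.auto β hβU'
  have hid : ¬ ∀ c ∈ Φ, τ c = c := fun hid => hβo ⟨s, inner_of_id h' hβτ hid⟩
  have hβρ : β (x' ρ) = x' ρ := RA.aut_fix h' ha' hβU'
  -- moved roots
  have key : ∀ t ∈ Φ, B t ρ = 1 → τ t ≠ t → ρ - t ∉ F → τ t ∈ F := by
    intro t htΦ htρ htτ htF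
    by_contra hτF
    have htp : t ∈ Pos Φ ht := RA.pos_of h ha htΦ (by omega)
    have htQ : x' t ∈ Qs B Φ x' ρ := mem_XS ⟨htΦ, by omega⟩
    have hcw : x' t * w = w * x' t := by
      rw [hwF]
      apply h'.comm_pr' htΦ hF
      intro r hr
      rcases h.cases htΦ (hF.mem r hr) with h1 | h1 | h1
      · exfalso
        have e := rt.eq_neg htΦ (hF.mem r hr) h1
        have h2 := hF1 r hr
        rw [e, rt.neg_left] at htρ
        omega
      · exfalso
        have h2 := rt.add t htΦ r (hF.mem r hr) h1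
        have h3 : t + r = ρ := rt.eq _ h2 ρ hρ (by rw [rt.add_left, htρ, hF1 r hr]; norm_num)
        apply htF
        rw [← h3]
        have : t + r - t = r := by abel
        rw [this]; exact hr
      · omega
    have hQQ : x' t ∈ Qs B Φ x ρ := by rw [← hQ']; exact htQ
    have hDt := hD _ hQQ hcw
    have hNt := hc.comm β (Or.inr (Or.inl rfl)) _ hDt
    have hβQ : β (x' t) ∈ Qs B Φ x ρ := by
      have h3 := htQ
      rw [← RA.OO_eq h' ha' hρ] at h3
      have h4 := OO_map β (x' ρ) h3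
      rw [hβρ, RA.OO_eq h' ha' hρ, hQ'] at h4
      exact h4
    have hτp := hFl.pos τ hτ t htp
    rcases hN _ hNt (mul_mem hβQ (inv_mem hQQ)) with h1 | h1
    · apply htτ
      have h2 : β (x' t) = x' t := mul_inv_eq_one.mp h1
      rw [hβτ t htΦ] at h2
      exact lead_eq h' hs hτp htp h2
    · have h2 : β (x' t) = w * x' t := mul_inv_eq_iff_eq_mul.mp h1
      rw [hβτ t htΦ] at h2
      refine lead_notMem h' hs hτp (S := {c | c = t ∨ c ∈ F}) ?_ ?_ ?_ ?_
      · rintro c (rfl | hc')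
        · exact htp
        · exact hFp c hc'
      · have hge : ∀ a b, (a = t ∨ a ∈ F) → (b = t ∨ b ∈ F) → B a b ≠ -1 := by
          have htr : ∀ r ∈ F, B t r ≠ -1 := by
            intro r hr h4
            have h5 := rt.add t htΦ r (hF.mem r hr) h4
            have h6 : t + r = ρ := rt.eq _ h5 ρ hρ (by rw [rt.add_left, htρ, hF1 r hr]; norm_num)
            apply htF
            rw [← h6]
            have : t + r - t = r := by abel
            rw [this]; exact hr
          rintro a b (rfl | ha1) (rfl | hb1)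
          · rw [h.self htΦ]; norm_num
          · exact htr b hb1
          · rw [rt.symm]; exact htr a ha1
          · by_cases e : a = b
            · rw [e, h.self (hF.mem b hb1)]; norm_num
            · rw [hF.eq_zero rt ha1 hb1 e]; norm_num
        have hpos : ∀ a, (a = t ∨ a ∈ F) → a ∈ Pos Φ ht := by
          rintro a (rfl | ha1)
          · exact htp
          · exact hFp a ha1
        rintro a (ha1 | ha1) b (hb1 | hb1) hab
        · exact absurd hab (hge a b ha1 hb1)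
        · right
          refine ⟨h.closed_pos a (hpos a ha1) b hb1.1 hab, ?_⟩
          have := (hpos a ha1).2
          have := hb1.2
          rw [map_add]; omega
        · right
          refine ⟨h.closed_pos a ha1.1 b (hpos b hb1) hab, ?_⟩
          have := (hpos b hb1).2
          have := ha1.2
          rw [map_add]; omega
        · right
          refine ⟨h.closed_pos a ha1.1 b hb1.1 hab, ?_⟩
          have := ha1.1.2
          have := hb1.2
          rw [map_add]; omega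
      · rintro (h3 | h3)
        · exact htτ h3
        · exact hτF h3
      · rw [h2, hwF]
        exact mul_mem (RE.pr_mem fun a ha => Or.inr ha) (mem_XS (Or.inl rfl))
  -- counting
  have hcard := (hFl.alt τ hτ).resolve_left hid
  have hsub : {t | t ∈ Φ ∧ B t ρ = 1 ∧ τ t ≠ t} ⊆ ((fun r => ρ - r) '' {c | c ∈ F}) ∪ (τ ⁻¹' {c | c ∈ F}) := by
    rintro t ⟨ht1, ht2, ht3⟩
    by_cases h1 : ρ - t ∈ F
    · left
      exact ⟨ρ - t, h1, by show ρ - (ρ - t) = t; abel⟩
    · right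
      exact key t ht1 ht2 ht3 h1
  have hFfin : {c : L | c ∈ F}.Finite := List.finite_toSet F
  have hFcard : {c : L | c ∈ F}.ncard ≤ 4 := by
    classical
    have e : {c : L | c ∈ F} = ((F.toFinset : Finset L) : Set L) := by ext c; simp
    rw [e, Set.ncard_coe_finset]
    exact (List.toFinset_card_le F).trans hF4
  have hpre : (τ ⁻¹' {c | c ∈ F}).Finite := hFfin.preimage (hFl.inj τ hτ).injOn
  have h1 : (((fun r => ρ - r) '' {c | c ∈ F}) ∪ (τ ⁻¹' {c | c ∈ F})).ncard ≤ 8 := by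
    have h2 := Set.ncard_union_le ((fun r => ρ - r) '' {c | c ∈ F}) (τ ⁻¹' {c | c ∈ F})
    have h3 : ((fun r => ρ - r) '' {c | c ∈ F}).ncard ≤ {c | c ∈ F}.ncard := Set.ncard_image_le hFfin
    have h4 : (τ ⁻¹' {c | c ∈ F}).ncard ≤ {c | c ∈ F}.ncard := by
      rw [← Set.ncard_image_of_injective _ (hFl.inj τ hτ)]
      exact Set.ncard_le_ncard (Set.image_preimage_subset _ _) hFfin
    omega
  have h2 := Set.ncard_le_ncard hsub ((hFfin.image _).union hpre)
  omega

/-- with one inner automorphism -/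
theorem false_of_inner (hFl : FlOK B Φ ht ρ Fl) {a : Y} (hα : α = MulAut.conj a) : False := by
  by_cases hB : NoN x ρ α β N
  · obtain ⟨g, h1, h2⟩ := exists_frame' h ha hc.aa hc.bb hc.ab
    exact caseB (h.map (MulAut.conj g)) (ha.map (MulAut.conj g)) hc hFl (hB.mv g) h1 h2 hα
  · unfold NoN at hB
    push Not at hB
    obtain ⟨g0, e1, e2, n, hn, hnO, hn1⟩ := hB
    obtain ⟨g, hg, h1, h2⟩ := exists_frame h ha hc.aa hc.bb hc.ab rfl e1 e2
    have h' := h.map (MulAut.conj g)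
    have ha' := ha.map (MulAut.conj g)
    have hne : ∃ n ∈ N, n ∈ Qs B Φ (mv (MulAut.conj g) x) ρ ∧ n ≠ 1 := by
      refine ⟨n, hn, ?_, hn1⟩
      rw [← RA.OO_eq h' ha' ha.ρmem]
      have e : mv (MulAut.conj g) x ρ = g0 * x ρ * g0⁻¹ := hg
      rw [e]; exact hnO
    by_cases hβo : ∃ b, β = MulAut.conj b
    · obtain ⟨b, hb⟩ := hβo
      exact caseA_inner h' ha' hc hne h1 h2 hα hb
    · exact caseA_outer h' ha' hc hFl hne h2 hβo

/-- **No configuration.** -/
theorem false_of_conf (hFl : FlOK B Φ ht ρ Fl) : False := by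
  by_cases hα : ∃ a, α = MulAut.conj a
  · obtain ⟨a, hα⟩ := hα
    exact false_of_inner h ha hc hFl hα
  by_cases hβ : ∃ b, β = MulAut.conj b
  · obtain ⟨b, hβ⟩ := hβ
    exact false_of_inner h ha (conf_symm hc) hFl hβ
  -- both outer: the product is inner
  obtain ⟨g, h1, h2⟩ := exists_frame' h ha hc.aa hc.bb hc.ab
  have h' := h.map (MulAut.conj g)
  have ha' := ha.map (MulAut.conj g)
  obtain ⟨s, hs, τ, hτ, hατ⟩ := ha'.auto α h1
  obtain ⟨s', hs', τ', hτ', hβτ⟩ := ha'.auto β h2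
  have hid : ¬ ∀ c ∈ Φ, τ c = c := fun hid => hα ⟨s, inner_of_id h' hατ hid⟩
  have hid' : ¬ ∀ c ∈ Φ, τ' c = c := fun hid => hβ ⟨s', inner_of_id h' hβτ hid⟩
  have hττ : ∀ c ∈ Φ, τ (τ' c) = c := hFl.comp τ τ' hτ hτ' hid hid'
  have hτΦ : ∀ c ∈ Φ, τ' c ∈ Φ := by
    intro c hcΦ
    by_cases h0 : 0 < ht c
    · exact (hFl.pos τ' hτ' c ⟨hcΦ, h0⟩).1
    · have h3 := h.ht0 c hcΦ
      have h4 := (hFl.pos τ' hτ' (-c) ⟨h.rt.neg_mem c hcΦ, by rw [map_neg]; omega⟩).1
      rw [map_neg] at h4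
      have := h.rt.neg_mem _ h4
      rwa [neg_neg] at this
  have hin : α * β = MulAut.conj (α s' * s) := by
    apply h'.aut_ext
    intro c hcΦ
    show α (β _) = _
    rw [hβτ c hcΦ, map_mul, map_mul, map_inv, hατ _ (hτΦ c hcΦ), hττ c hcΦ, MulAut.conj_apply]
    group
  exact false_of_inner h ha (conf_mul hc) hFl hin

end

end Cfsg.Agent.OddHalf.D4.En2

end
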